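import Mathlib
import Cfsg.Prelude.Def_TwoFusion
import Cfsg.Agent.Involutions.CommonInvolution
import Cfsg.Agent.Classification.TransferSign
import Cfsg.Agent.J4Type.TopZ

/-!
# Involutions whose centralizer contains at most three involutions (helper993)

`one_class`: in a finite simple group with such an involution all involutions are conjugate.
-/

set_option autoImplicit false

namespace Cfsg.Agent.H993.FewInv

open Subgroup

variable {G : Type*} [Group G] [Finite G]

/-- Two non-conjugate involutions commute with a common involution different from both. -/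
theorem exists_common (x y : G) (hx : orderOf x = 2) (hy : orderOf y = 2) (hnc : ¬ IsConj x y) :
    ∃ z : G, orderOf z = 2 ∧ Commute z x ∧ Commute z y ∧ z ≠ x ∧ z ≠ y := by
  obtain ⟨z, hz, hzx, hzy, hzm⟩ :=
    Cfsg.Agent.Involutions.CommonInvolution.exists_common_involution x y hx hy hnc
  have hxy : x ≠ y := fun h => hnc (h ▸ IsConj.refl x)
  have x2 : x * x = 1 := by rw [← pow_two, ← hx, pow_orderOf_eq_one]
  have y2 : y * y = 1 := by rw [← pow_two, ← hy, pow_orderOf_eq_one]
  have x1 : x ≠ 1 := by rintro rfl; rw [orderOf_one] at hx; omega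
  have y1 : y ≠ 1 := by rintro rfl; rw [orderOf_one] at hy; omega
  refine ⟨z, hz, hzx, hzy, ?_, ?_⟩
  · rintro rfl
    have hyy : y ∈ zpowers (z * y) := by
      have h := (zpowers (z * y)).mul_mem hzm (mem_zpowers (z * y))
      rwa [← mul_assoc, x2, one_mul] at h
    exact hxy (Cfsg.Agent.Classification.TransferSign.eq_of_isCyclic (zpowers (z * y))
      inferInstance hzm hyy x2 y2 x1 y1)
  · rintro rfl
    have hxx : x ∈ zpowers (x * z) := by
      have h := (zpowers (x * z)).mul_mem (mem_zpowers (x * z)) hzm
      rwa [mul_assoc, y2, mul_one] at h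
    exact hxy (Cfsg.Agent.Classification.TransferSign.eq_of_isCyclic (zpowers (x * z))
      inferInstance hxx hzm x2 y2 x1 y1)

/-- If at most three involutions commute with the involution `x`, then `x`, another involution `y`
commuting with `x` and `x y` are all of them. -/
theorem eq_of_commute {x y : G} (hx : orderOf x = 2)
    (h3 : Nat.card {u : ↥(Subgroup.centralizer ({x} : Set G)) // orderOf u = 2} ≤ 3)
    (hy : orderOf y = 2) (hxy : Commute x y) (hne : y ≠ x) {u : G} (hu : orderOf u = 2)
    (hux : Commute x u) : u = x ∨ u = y ∨ u = x * y := by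
  classical
  have x2 : x * x = 1 := by rw [← pow_two, ← hx, pow_orderOf_eq_one]
  have y2 : y * y = 1 := by rw [← pow_two, ← hy, pow_orderOf_eq_one]
  have x1 : x ≠ 1 := by rintro rfl; rw [orderOf_one] at hx; omega
  have y1 : y ≠ 1 := by rintro rfl; rw [orderOf_one] at hy; omega
  have xy2 : orderOf (x * y) = 2 := by
    apply orderOf_eq_prime
    · rw [pow_two, mul_assoc, ← mul_assoc y x y, ← hxy.eq, mul_assoc x y y, y2, mul_one, x2]
    · intro h
      apply hne
      rw [← mul_right_inj x, h, x2]
  by_contra hcon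
  push Not at hcon
  obtain ⟨h1, h2, h3'⟩ := hcon
  have mem : ∀ v : G, Commute x v → v ∈ Subgroup.centralizer ({x} : Set G) := by
    intro v hv
    rw [Subgroup.mem_centralizer_singleton_iff]
    exact hv.symm.eq
  let f : Fin 4 → {u : ↥(Subgroup.centralizer ({x} : Set G)) // orderOf u = 2} := fun i =>
    match i with
    | 0 => ⟨⟨x, mem x (Commute.refl x)⟩, by rw [Subgroup.orderOf_mk]; exact hx⟩
    | 1 => ⟨⟨y, mem y hxy⟩, by rw [Subgroup.orderOf_mk]; exact hy⟩
    | 2 => ⟨⟨x * y, mem _ ((Commute.refl x).mul_right hxy)⟩, by rw [Subgroup.orderOf_mk]; exact xy2⟩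
    | 3 => ⟨⟨u, mem u hux⟩, by rw [Subgroup.orderOf_mk]; exact hu⟩
  have e1 : x ≠ x * y := fun h => y1 (by simpa using h)
  have e2 : y ≠ x * y := fun h => x1 (by simpa using h)
  let g : {u : ↥(Subgroup.centralizer ({x} : Set G)) // orderOf u = 2} → G := fun v => ((v.1 : _) : G)
  have hg : Function.Injective (g ∘ f) := by
    intro i j hij
    fin_cases i <;> fin_cases j <;> simp [g, f] at hij ⊢ <;>
      first
        | exact hne hij.symm
        | exact hne hij
        | exact e1 hij
        | exact e1 hij.symm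
        | exact e2 hij
        | exact e2 hij.symm
        | exact h1 hij
        | exact h1 hij.symm
        | exact h2 hij
        | exact h2 hij.symm
        | exact h3' hij
        | exact h3' hij.symm
        | exact x1 hij
        | exact y1 hij
  have hf : Function.Injective f := hg.of_comp
  have := Nat.card_le_card_of_injective f hf
  rw [Nat.card_eq_fintype_card, Fintype.card_fin] at this
  omega

/-- The number of involutions in the centralizer is constant on conjugacy classes. -/
theorem card_inv_conj (x g : G) :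
    Nat.card {u : ↥(Subgroup.centralizer ({g * x * g⁻¹} : Set G)) // orderOf u = 2} ≤
      Nat.card {u : ↥(Subgroup.centralizer ({x} : Set G)) // orderOf u = 2} := by
  have mem : ∀ v : ↥(Subgroup.centralizer ({g * x * g⁻¹} : Set G)),
      g⁻¹ * (v : G) * g ∈ Subgroup.centralizer ({x} : Set G) := by
    rintro ⟨v, hv⟩
    rw [Subgroup.mem_centralizer_singleton_iff] at hv ⊢
    calc g⁻¹ * v * g * x = g⁻¹ * (v * (g * x * g⁻¹)) * g := by group
      _ = g⁻¹ * ((g * x * g⁻¹) * v) * g := by rw [hv]
      _ = x * (g⁻¹ * v * g) := by group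
  refine Nat.card_le_card_of_injective
    (fun v => ⟨⟨g⁻¹ * ((v.1 : _) : G) * g, mem v.1⟩, ?_⟩) ?_
  · have h := v.2
    rw [Subgroup.orderOf_mk]
    have h2 : orderOf ((v.1 : _) : G) = 2 := by rw [Subgroup.orderOf_coe]; exact h
    have := (MulAut.conj g⁻¹).orderOf_eq ((v.1 : _) : G)
    rw [MulAut.conj_apply, inv_inv] at this
    exact this.trans h2
  · rintro ⟨⟨v, hv⟩, h1⟩ ⟨⟨w, hw⟩, h2⟩ h
    simp only [Subtype.mk.injEq] at h
    have : v = w := mul_left_cancel (mul_right_cancel h)
    subst this
    rfl

/-- **All involutions of a finite non-abelian simple group are conjugate** if the centralizer of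
one of them contains at most three involutions. -/
theorem one_class [IsSimpleGroup G] (hnc : ∃ a b : G, a * b ≠ b * a) (x : G) (hx : orderOf x = 2)
    (h3 : Nat.card {u : ↥(Subgroup.centralizer ({x} : Set G)) // orderOf u = 2} ≤ 3) (u : G)
    (hu : orderOf u = 2) : IsConj x u := by
  -- a conjugate `y` of `x` commuting with `x`
  obtain ⟨g, hgc, hgne⟩ : ∃ g : G, Commute x (g * x * g⁻¹) ∧ g * x * g⁻¹ ≠ x := by
    by_contra hcon
    push Not at hcon
    exact Cfsg.Agent.J4Type.not_isolated x ⟨hx, hcon⟩ hnc
  set y := g * x * g⁻¹ with hy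
  have hyx : IsConj x y := isConj_iff.mpr ⟨g, rfl⟩
  have hy2 : orderOf y = 2 := by rw [← hx]; exact (MulAut.conj g).orderOf_eq x
  have h3y : Nat.card {u : ↥(Subgroup.centralizer ({y} : Set G)) // orderOf u = 2} ≤ 3 :=
    (card_inv_conj x g).trans h3
  have cx : ∀ w : G, orderOf w = 2 → Commute x w → w = x ∨ w = y ∨ w = x * y :=
    fun w hw hxw => eq_of_commute hx h3 hy2 hgc hgne hw hxw
  have cy : ∀ w : G, orderOf w = 2 → Commute y w → w = x ∨ w = y ∨ w = x * y := by
    intro w hw hyw
    rcases eq_of_commute hy2 h3y hx hgc.symm (Ne.symm hgne) hw hyw with h | h | h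
    · exact Or.inr (Or.inl h)
    · exact Or.inl h
    · exact Or.inr (Or.inr (h.trans hgc.symm.eq))
  set v := x * y with hv
  have v2 : orderOf v = 2 := by
    have x2 : x * x = 1 := by rw [← pow_two, ← hx, pow_orderOf_eq_one]
    have y2 : y * y = 1 := by rw [← pow_two, ← hy2, pow_orderOf_eq_one]
    apply orderOf_eq_prime
    · rw [pow_two, hv, mul_assoc, ← mul_assoc y x y, ← hgc.eq, mul_assoc x y y, y2, mul_one, x2]
    · intro h
      apply hgne
      rw [← mul_right_inj x, ← hv, h, x2]
  by_contra hxu
  -- every involution not conjugate to `x` commutes with `v`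
  have key : ∀ w : G, orderOf w = 2 → ¬ IsConj x w → Commute v w := by
    intro w hw hxw
    obtain ⟨z, hz, hzx, hzw, hzx1, hzw1⟩ := exists_common x w hx hw hxw
    rcases cx z hz hzx.symm with h | h | h
    · exact absurd h hzx1
    · rw [h] at hzw
      rcases cy w hw hzw with h' | h' | h'
      · exact absurd (h' ▸ IsConj.refl x) hxw
      · exact absurd (h' ▸ hyx) hxw
      · rw [h']
    · rw [h] at hzw
      exact hzw
  by_cases hvx : IsConj x v
  · -- `v` is conjugate to `x`
    obtain ⟨c, hc⟩ := isConj_iff.mp hvx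
    have h3v : Nat.card {u : ↥(Subgroup.centralizer ({v} : Set G)) // orderOf u = 2} ≤ 3 := by
      rw [← hc]
      exact (card_inv_conj x c).trans h3
    have hvu := key u hu hxu
    have hvx' : Commute v x := by
      rw [hv]
      exact (Commute.refl x).mul_left hgc.symm
    have hxv : x ≠ v := by
      intro h
      have : y = 1 := by
        rw [hv] at h
        simpa using h
      rw [this, orderOf_one] at hy2
      omega
    rcases eq_of_commute v2 h3v hx hvx' hxv hu hvu with h | h | h
    · exact hxu (h ▸ hvx)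
    · exact hxu (h ▸ IsConj.refl x)
    · apply hxu
      have : v * x = y := by
        have x2 : x * x = 1 := by rw [← pow_two, ← hx, pow_orderOf_eq_one]
        rw [hvx'.eq, hv, ← mul_assoc, x2, one_mul]
      rw [this] at h
      exact h ▸ hyx
  · -- the normal closure of `v` is abelian
    have hcomm : ∀ c : G, Commute v (c * v * c⁻¹) := by
      intro c
      apply key
      · rw [← v2]; exact (MulAut.conj c).orderOf_eq v
      · intro h
        exact hvx (h.trans (isConj_iff.mpr ⟨c, rfl⟩).symm)
    -- so `v` is isolated unless ...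
    obtain ⟨a, b, hab⟩ := hnc
    apply hab
    -- the centralizer of the class of `v`
    let S : Set G := {w | ∃ c : G, w = c * v * c⁻¹}
    have hS : ∀ w ∈ S, ∀ w' ∈ S, w * w' = w' * w := by
      rintro _ ⟨c, rfl⟩ _ ⟨d, rfl⟩
      have h := (hcomm (c⁻¹ * d)).eq
      calc c * v * c⁻¹ * (d * v * d⁻¹) = c * (v * (c⁻¹ * d * v * (c⁻¹ * d)⁻¹)) * c⁻¹ := by group
        _ = c * ((c⁻¹ * d * v * (c⁻¹ * d)⁻¹) * v) * c⁻¹ := by rw [h]
        _ = d * v * d⁻¹ * (c * v * c⁻¹) := by group
    have hn : (Subgroup.centralizer S).Normal := by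
      constructor
      intro n hn c
      rw [Subgroup.mem_centralizer_iff] at hn ⊢
      rintro _ ⟨d, rfl⟩
      have h := hn (c⁻¹ * d * v * (c⁻¹ * d)⁻¹) ⟨_, rfl⟩
      calc d * v * d⁻¹ * (c * n * c⁻¹) = c * ((c⁻¹ * d * v * (c⁻¹ * d)⁻¹) * n) * c⁻¹ := by group
        _ = c * (n * (c⁻¹ * d * v * (c⁻¹ * d)⁻¹)) * c⁻¹ := by rw [h]
        _ = c * n * c⁻¹ * (d * v * d⁻¹) := by group
    have hvS : v ∈ S := ⟨1, by group⟩
    have hvC : v ∈ Subgroup.centralizer S := by
      rw [Subgroup.mem_centralizer_iff]
      intro w hw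
      exact hS w hw v hvS
    have htop : Subgroup.centralizer S = ⊤ := by
      rcases IsSimpleGroup.eq_bot_or_eq_top_of_normal _ hn with h | h
      · rw [h, Subgroup.mem_bot] at hvC
        rw [hvC, orderOf_one] at v2
        omega
      · exact h
    -- hence `v` is central
    have hvz : v ∈ Subgroup.center G := by
      rw [Subgroup.mem_center_iff]
      intro w
      have : w ∈ Subgroup.centralizer S := by rw [htop]; trivial
      exact (Subgroup.mem_centralizer_iff.mp this v hvS).symm
    have hz : Subgroup.center G = ⊤ := by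
      rcases IsSimpleGroup.eq_bot_or_eq_top_of_normal (Subgroup.center G) inferInstance with h | h
      · rw [h, Subgroup.mem_bot] at hvz
        rw [hvz, orderOf_one] at v2
        omega
      · exact h
    have ha : a ∈ Subgroup.center G := by rw [hz]; trivial
    exact (Subgroup.mem_center_iff.mp ha b).symm

end Cfsg.Agent.H993.FewInv
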