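import Cfsg.Agent.H993.AbPerm
import Cfsg.Agent.J4Type.InvFix
import Cfsg.Agent.CpAutTThree.MTwelve
import Cfsg.Agent.UGT.End.MEleven

/-!
# Abelian subgroups of the Mathieu groups (helper993, for S2501)

* `fix_nine` : an element of `M24` fixing nine points is trivial;
* `ab3_M11`, `ab3_M12`, `ab3_M22`, `ab3_M23`, `ab3_M24`.
-/

set_option autoImplicit false

open scoped Pointwise

namespace Cfsg.Agent.H993.AbMathieu

open Subgroup Cfsg Cfsg.Agent.H498.Ab Cfsg.Agent.H993.AbPerm
open Cfsg.Agent.J4Type.InvFix Cfsg.Agent.SporadicStructure.M23LocalInput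

/-- an octad with five fixed points -/
theorem octad_three {g : M24} (hg1 : g ≠ 1) (h3 : g ^ 3 = 1) {F : Finset GolayPt} (hF : 9 ≤ F.card)
    (hfix : ∀ p, p ∈ F ↔ g • p = p) {s o : Finset GolayPt} (hs : s.card = 5) (hsF : s ⊆ F) (ho : o ∈ octads)
    (hso : s ⊆ o) : g • o = o ∧ (∀ p ∈ o, p ∈ F → p ∈ s) := by
  classical
  have h1 : g • o = o := smul_octad_eq S0363.result g ho s (by rw [hs]) hso fun p hp => (hfix p).1 (hsF hp)
  refine ⟨h1, ?_⟩
  -- a moved point of `o`
  obtain ⟨q, hq, hqF⟩ : ∃ q ∈ o, q ∉ F := by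
    by_contra hcon
    push Not at hcon
    have h2 : ∃ p ∈ F, p ∉ o := by
      by_contra hcon2
      push Not at hcon2
      have := Finset.card_le_card (show F ⊆ o from hcon2)
      rw [ho.2] at this
      omega
    obtain ⟨p, hpF, hpo⟩ := h2
    exact hg1 (eq_one_of_fix S0363.result inter_ne_three ho g (fun p hp => (hfix p).1 (hcon p hp)) hpo ((hfix p).1 hpF))
  have hgo : ∀ p ∈ o, g • p ∈ o := by
    intro p hp
    have := Finset.smul_mem_smul_finset (a := g) hp
    rwa [h1] at this
  have hgq : g • q ≠ q := fun h => hqF ((hfix q).2 h)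
  have hg3 : ∀ p : GolayPt, g • g • g • p = p := by
    intro p
    rw [← mul_smul, ← mul_smul, show g * g * g = g ^ 3 by rw [pow_succ, pow_two], h3, one_smul]
  have hT : ({q, g • q, g • g • q} : Finset GolayPt) ⊆ o \ F := by
    intro p hp
    simp only [Finset.mem_insert, Finset.mem_singleton] at hp
    rw [Finset.mem_sdiff]
    rcases hp with rfl | rfl | rfl
    · exact ⟨hq, hqF⟩
    · refine ⟨hgo _ hq, fun h => hgq ?_⟩
      exact smul_left_cancel g ((hfix _).1 h)
    · refine ⟨hgo _ (hgo _ hq), fun h => hgq ?_⟩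
      exact smul_left_cancel g (smul_left_cancel g ((hfix _).1 h))
  have hTc : ({q, g • q, g • g • q} : Finset GolayPt).card = 3 := by
    rw [Finset.card_eq_three]
    refine ⟨q, g • q, g • g • q, hgq.symm, ?_, ?_, rfl⟩
    · intro h
      apply hgq
      have h4 := congrArg (fun y => g • y) h
      change g • q = g • g • g • q at h4
      rw [hg3] at h4
      exact h4
    · intro h
      exact hgq (smul_left_cancel g h).symm
  have h5 := Finset.card_le_card hT
  rw [hTc] at h5
  have h6 := Finset.card_sdiff_add_card_inter o F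
  rw [ho.2] at h6
  intro p hpo hpF
  have h7 : s ⊆ o ∩ F := Finset.subset_inter hso hsF
  have h8 : o ∩ F = s := (Finset.eq_of_subset_of_card_le h7 (by omega)).symm
  rw [← h8]
  exact Finset.mem_inter.2 ⟨hpo, hpF⟩

/-- no element of order three of `M24` fixes nine points -/
theorem not_three {g : M24} (hg1 : g ≠ 1) (h3 : g ^ 3 = 1) {F : Finset GolayPt} (hF : 9 ≤ F.card)
    (hfix : ∀ p, p ∈ F ↔ g • p = p) : False := by
  classical
  obtain ⟨U, hU, hU7⟩ := Finset.exists_subset_card_eq (show 7 ≤ F.card by omega)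
  obtain ⟨V, hV, hV3⟩ := Finset.exists_subset_card_eq (show 3 ≤ U.card by omega)
  have hUV : (U \ V).card = 4 := by
    rw [Finset.card_sdiff_of_subset hV]
    omega
  obtain ⟨W, hW, hW2⟩ := Finset.exists_subset_card_eq (show 2 ≤ (U \ V).card by omega)
  set X := (U \ V) \ W with hX
  have hX2 : X.card = 2 := by
    rw [hX, Finset.card_sdiff_of_subset hW]
    omega
  have hVW : Disjoint V W := by
    rw [Finset.disjoint_left]
    intro p hp hp'
    exact (Finset.mem_sdiff.1 (hW hp')).2 hp
  have hVX : Disjoint V X := by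
    rw [Finset.disjoint_left]
    intro p hp hp'
    exact (Finset.mem_sdiff.1 (Finset.mem_sdiff.1 hp').1).2 hp
  have hWX : Disjoint W X := by
    rw [Finset.disjoint_left]
    intro p hp hp'
    exact (Finset.mem_sdiff.1 hp').2 hp
  have h1 : (V ∪ W).card = 5 := by rw [Finset.card_union_of_disjoint hVW]; omega
  have h2 : (V ∪ X).card = 5 := by rw [Finset.card_union_of_disjoint hVX]; omega
  have hWU : W ⊆ U := hW.trans Finset.sdiff_subset
  have hXU : X ⊆ U := Finset.sdiff_subset.trans Finset.sdiff_subset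
  have s1 : V ∪ W ⊆ F := (Finset.union_subset hV hWU).trans hU
  have s2 : V ∪ X ⊆ F := (Finset.union_subset hV hXU).trans hU
  obtain ⟨o₁, ⟨ho₁, hs₁⟩, -⟩ := S0363.result.2 _ h1
  obtain ⟨o₂, ⟨ho₂, hs₂⟩, -⟩ := S0363.result.2 _ h2
  obtain ⟨g₁, f₁⟩ := octad_three hg1 h3 hF hfix h1 s1 ho₁ hs₁
  obtain ⟨g₂, f₂⟩ := octad_three hg1 h3 hF hfix h2 s2 ho₂ hs₂
  have hne : o₁ ≠ o₂ := by
    rintro rfl
    obtain ⟨x, hx⟩ : X.Nonempty := Finset.card_pos.1 (by omega)
    have hx1 : x ∈ o₁ := hs₂ (Finset.mem_union_right _ hx)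
    have hx2 := f₁ x hx1 (s2 (Finset.mem_union_right _ hx))
    rcases Finset.mem_union.1 hx2 with h | h
    · exact Finset.disjoint_left.1 hVX h hx
    · exact Finset.disjoint_left.1 hWX h hx
  have hα : Fintype.card Cfsg.GolayPt = 24 := by simp
  have hVo : V ⊆ o₁ ∩ o₂ := Finset.subset_inter (Finset.subset_union_left.trans hs₁)
    (Finset.subset_union_left.trans hs₂)
  have h4 : (o₁ ∩ o₂).card = 4 := by
    have := Finset.card_le_card hVo
    rcases S0352.result hα S0363.result ho₁ ho₂ hne with h | h | h <;> omega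
  obtain ⟨r, hr⟩ : ((o₁ ∩ o₂) \ V).Nonempty := by
    rw [← Finset.card_pos, Finset.card_sdiff_of_subset hVo]
    omega
  rw [Finset.mem_sdiff, Finset.mem_inter] at hr
  have hrF : r ∉ F := by
    intro hrF
    have a1 := f₁ r hr.1.1 hrF
    have a2 := f₂ r hr.1.2 hrF
    rcases Finset.mem_union.1 a1 with h | h
    · exact hr.2 h
    · rcases Finset.mem_union.1 a2 with h' | h'
      · exact hr.2 h'
      · exact Finset.disjoint_left.1 hWX h h'
  have hgr : g • r ≠ r := fun h => hrF ((hfix r).2 h)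
  have hgo₁ : g • r ∈ o₁ := by
    have := Finset.smul_mem_smul_finset (a := g) hr.1.1
    rwa [g₁] at this
  have hgo₂ : g • r ∈ o₂ := by
    have := Finset.smul_mem_smul_finset (a := g) hr.1.2
    rwa [g₂] at this
  have h5 : insert r (insert (g • r) V) ⊆ o₁ ∩ o₂ := by
    intro p hp
    simp only [Finset.mem_insert] at hp
    rcases hp with rfl | rfl | hp
    · exact Finset.mem_inter.2 hr.1
    · exact Finset.mem_inter.2 ⟨hgo₁, hgo₂⟩
    · exact hVo hp
  have h6 : (insert r (insert (g • r) V)).card = 5 := by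
    rw [Finset.card_insert_of_notMem, Finset.card_insert_of_notMem, hV3]
    · intro h
      have h7 := (hfix _).1 (hU (hV h))
      exact hgr (smul_left_cancel g h7)
    · rw [Finset.mem_insert, not_or]
      exact ⟨fun h => hgr h.symm, hr.2⟩
  have := Finset.card_le_card h5
  omega

/-- **An element of `M24` fixing nine points is trivial.** -/
theorem fix_nine {g : M24} {F : Finset GolayPt} (hF : 9 ≤ F.card) (hfix : ∀ p ∈ F, g • p = p) : g = 1 := by
  classical
  by_contra hg1
  have h1 : Nat.card ↥(zpowers g) ≤ 3 := by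
    refine card_of_fix_nine (zpowers g) hF ?_
    intro k hk p hp
    obtain ⟨n, rfl⟩ := mem_zpowers_iff.1 hk
    exact (MulAction.stabilizer M24 p).zpow_mem (show g ∈ MulAction.stabilizer M24 p from hfix p hp) n
  rw [Nat.card_zpowers] at h1
  have h0 : orderOf g ≠ 0 := (orderOf_pos g).ne'
  have h2 : orderOf g ≠ 1 := fun h => hg1 (orderOf_eq_one_iff.1 h)
  have h3 : orderOf g = 2 ∨ orderOf g = 3 := by omega
  rcases h3 with h | h
  · have := card_fix_le (u := g) (by rw [← h, pow_orderOf_eq_one]) hg1 hfix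
    omega
  · refine not_three (g := g) hg1 (by rw [← h, pow_orderOf_eq_one]) (F := Finset.univ.filter fun p => g • p = p) ?_ ?_
    · refine hF.trans (Finset.card_le_card fun p hp => ?_)
      rw [Finset.mem_filter]
      exact ⟨Finset.mem_univ _, hfix p hp⟩
    · intro p
      simp

/-- in terms of permutations -/
theorem fix_nine' {a : Equiv.Perm GolayPt} (ha : a ∈ M24) {S : Set GolayPt} (hS : 8 < S.ncard)
    (hfix : ∀ p ∈ S, a p = p) : a = 1 := by
  classical
  have h1 : (⟨a, ha⟩ : M24) = 1 := by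
    refine fix_nine (F := S.toFinset) ?_ ?_
    · rw [← Set.ncard_eq_toFinset_card']
      exact hS
    · intro p hp
      exact hfix p (Set.mem_toFinset.1 hp)
  exact congrArg Subtype.val h1

/-- reduction to permutation groups -/
theorem ab3_of_perm {Ω : Type*} [Finite Ω] {T : Subgroup (Equiv.Perm Ω)} {N : ℕ} (hT : Nat.card T = N)
    (h : ∀ A : Subgroup (Equiv.Perm Ω), A ≤ T → IsMulCommutative A → Nat.card A ^ 3 < N) : Ab3 ↥T := by
  intro A hA
  have h1 := h (A.map T.subtype) (Subgroup.map_subtype_le _) (comm_map _ hA)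
  rw [Subgroup.card_map_of_injective T.subtype_injective] at h1
  rw [hT]
  exact h1

theorem card_pts : (Set.univ : Set GolayPt).ncard = 24 := by
  rw [Set.ncard_univ, Nat.card_eq_fintype_card]
  decide +kernel

theorem ab3_M24' : Ab3 M24 := by
  refine ab3_of_perm (N := 244823040) S0364.result fun A hA hc => ?_
  have h := cube_le hc (D := Set.univ) (fun _ _ _ _ => trivial) (f := 8) (k := 0) card_pts (by norm_num)
    (fun a ha S _ hS hf => fix_nine' (hA ha) hS hf) (S₀ := ∅) (Set.empty_subset _) (Set.ncard_empty _)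
    (fun _ _ p hp => absurd hp (Set.notMem_empty p)) (by norm_num)
  norm_num at h
  omega

theorem ab3_M23' : Ab3 Spor.M23 := by
  refine ab3_of_perm (N := 10200960) SporadicA.MathieuRecog.card_M23 fun A hA hc => ?_
  have h := cube_le hc (D := Set.univ) (fun _ _ _ _ => trivial) (f := 8) (k := 1) card_pts (by norm_num)
    (fun a ha S _ hS hf => fix_nine' (hA ha).1 hS hf) (S₀ := {none}) (Set.subset_univ _) (Set.ncard_singleton _)
    (fun a ha p hp => by rw [Set.mem_singleton_iff.1 hp]; exact (hA ha).2) (by norm_num)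
  norm_num at h
  omega

theorem ab3_M22' : Ab3 Spor.M22 := by
  refine ab3_of_perm (N := 443520) SporadicA.MathieuRecog.card_M22 fun A hA hc => ?_
  have h := cube_le hc (D := Set.univ) (fun _ _ _ _ => trivial) (f := 8) (k := 2) card_pts (by norm_num)
    (fun a ha S _ hS hf => fix_nine' (hA ha).1.1 hS hf) (S₀ := {none, some 0}) (Set.subset_univ _)
    (Set.ncard_pair (by simp))
    (fun a ha p hp => by
      rcases hp with rfl | hp
      · exact (hA ha).1.2
      · rw [Set.mem_singleton_iff.1 hp]; exact (hA ha).2) (by norm_num)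
  norm_num at h
  omega

/-- the fixity of `M12` on the dodecad -/
theorem fix_twelve {a : Equiv.Perm GolayPt} (ha : a ∈ Spor.M12) {S : Set GolayPt}
    (hSD : S ⊆ (Spor.squareDodecad : Set GolayPt)) (hS : 4 < S.ncard) (hfix : ∀ p ∈ S, a p = p) : a = 1 := by
  by_contra h1
  have h2 := CpAutTThree.MTwelve.fix_le ha h1
  have h3 : S.ncard ≤ (CpAutTThree.MTwelve.Fix a).card := by
    rw [← Set.ncard_coe_finset]
    refine Set.ncard_le_ncard ?_ (Set.toFinite _)
    intro p hp
    exact CpAutTThree.MTwelve.mem_Fix.2 ⟨hSD hp, hfix p hp⟩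
  omega

theorem card_dod : (Spor.squareDodecad : Set GolayPt).ncard = 12 := by
  rw [Set.ncard_coe_finset, CpAutTThree.MTwelve.card_dodecad]

theorem ab3_M12' : Ab3 Spor.M12 := by
  refine ab3_of_perm (N := 95040) CpAutTThree.MTwelve.card fun A hA hc => ?_
  have h := cube_le hc (D := Spor.squareDodecad) (fun a ha p hp => CpAutTThree.MTwelve.map_mem (hA ha) hp) (f := 4)
    (k := 0) card_dod (by norm_num)
    (fun a ha S hSD hS hf => fix_twelve (hA ha) hSD hS hf) (S₀ := ∅) (Set.empty_subset _) (Set.ncard_empty _)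
    (fun _ _ p hp => absurd hp (Set.notMem_empty p)) (by norm_num)
  norm_num at h
  omega

theorem zero_mem : (some 0 : GolayPt) ∈ Spor.squareDodecad := by decide +kernel

theorem ab3_M11' : Ab3 Spor.M11 := by
  have hc : Nat.card Spor.M11 = 7920 := (UGT.End.MEleven.isM11 (X := Spor.M11) ⟨MulEquiv.refl _⟩).2
  refine ab3_of_perm (N := 7920) hc fun A hA hc => ?_
  have h := cube_le hc (D := Spor.squareDodecad) (fun a ha p hp => CpAutTThree.MTwelve.map_mem (hA ha).1 hp) (f := 4)
    (k := 1) card_dod (by norm_num)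
    (fun a ha S hSD hS hf => fix_twelve (hA ha).1 hSD hS hf) (S₀ := {some 0})
    (Set.singleton_subset_iff.2 zero_mem) (Set.ncard_singleton _)
    (fun a ha p hp => by rw [Set.mem_singleton_iff.1 hp]; exact (hA ha).2) (by norm_num)
  norm_num at h
  omega

/-! ### the rows -/

theorem ab3_M11 {G : Type*} [Group G] [Finite G] [IsSimpleGroup G] (h : Cfsg.Spor.IsoM11 G) : Ab3 G := by
  obtain ⟨e⟩ := h
  exact ab3_M11'.congr e.symm

theorem ab3_M12 {G : Type*} [Group G] [Finite G] [IsSimpleGroup G] (h : Cfsg.Spor.IsoM12 G) : Ab3 G := by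
  obtain ⟨e⟩ := h
  exact ab3_M12'.congr e.symm

theorem ab3_M22 {G : Type*} [Group G] [Finite G] [IsSimpleGroup G] (h : Cfsg.Spor.IsoM22 G) : Ab3 G := by
  obtain ⟨e⟩ := h
  exact ab3_M22'.congr e.symm

theorem ab3_M23 {G : Type*} [Group G] [Finite G] [IsSimpleGroup G] (h : Cfsg.Spor.IsoM23 G) : Ab3 G := by
  obtain ⟨e⟩ := h
  exact ab3_M23'.congr e.symm

theorem ab3_M24 {G : Type*} [Group G] [Finite G] [IsSimpleGroup G] (h : Cfsg.Spor.IsoM24 G) : Ab3 G := by
  obtain ⟨e⟩ := h
  exact ab3_M24'.congr e.symm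

end Cfsg.Agent.H993.AbMathieu
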