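import Cfsg.Agent.H993.AbTool
import Cfsg.Agent.H993.AbMcLFix
import Cfsg.Agent.TypeM.FactsMcL
import Cfsg.Agent.H573.Spor.McLFive

/-!
# Abelian subgroups of `McL` (helper993, for S2501)

`ab3_McL`.
-/

set_option autoImplicit false

namespace Cfsg.Agent.H993.AbMcL

open Cfsg Subgroup Cfsg.Agent.H498.Ab Cfsg.Agent.H993.AbTool

/-! ### Nonabelian Sylow subgroups -/

/-- The Sylow subgroups are not abelian. -/
theorem fb_of_sylow {G : Type*} [Group G] [Finite G] {p e : ℕ} [Fact p.Prime] (he : ¬ p ^ (e + 1) ∣ Nat.card G)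
    (h : ∀ P : Sylow p G, ¬ IsMulCommutative (P : Subgroup G)) : Fb (p ^ e) G := by
  intro A hA hd
  have hp : p.Prime := Fact.out
  obtain ⟨Q, hQ⟩ := Sylow.exists_subgroup_card_pow_prime (G := A) p hd
  have h1 : Nat.card (Q.map A.subtype) = p ^ e := by
    rw [← hQ]
    exact Nat.card_congr (Subgroup.equivMapOfInjective Q A.subtype (Subgroup.subtype_injective _)).symm.toEquiv
  have hQp : IsPGroup p (Q.map A.subtype) := IsPGroup.of_card h1
  obtain ⟨P, hP⟩ := hQp.exists_le_sylow
  have h2 : Nat.card P ∣ p ^ e := by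
    obtain ⟨k, hk⟩ := IsPGroup.iff_card.1 P.2
    have h3 : k ≤ e := by
      by_contra hcon
      apply he
      exact (pow_dvd_pow p (by omega)).trans (hk ▸ Subgroup.card_subgroup_dvd_card (P : Subgroup G))
    rw [hk]
    exact pow_dvd_pow p h3
  have h3 : (Q.map A.subtype) = P := by
    refine Subgroup.eq_of_le_of_card_ge hP ?_
    rw [h1]
    exact Nat.le_of_dvd (pow_pos hp.pos e) h2
  apply h P
  rw [← h3, comm_iff]
  intro a ha b hb
  exact comm_iff.1 hA a (Subgroup.map_subtype_le _ ha) b (Subgroup.map_subtype_le _ hb)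

/-! ### Orbits on 275 points -/

section core

variable {G : Type*} [Group G] [Finite G] {Ω : Type*} [Finite Ω] [MulAction G Ω]

/-- the points fixed by `g` -/
def fixS (g : G) : Set Ω := {p | g • p = p}

omit [Finite G] [Finite Ω] in
theorem mem_fixS {g : G} {p : Ω} : p ∈ fixS (Ω := Ω) g ↔ g • p = p := Iff.rfl

omit [Finite G] [Finite Ω] in
theorem normal_of_comm {A : Subgroup G} (hA : IsMulCommutative A) (S : Subgroup A) : S.Normal := by
  refine ⟨fun n hn g => ?_⟩
  have h1 : g * n * g⁻¹ = n := by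
    have h2 : g * n = n * g := Subtype.ext (comm_iff.1 hA g g.2 n n.2)
    rw [h2, mul_inv_cancel_right]
  rwa [h1]

theorem mem_of_pow {H : Type*} [Group H] [Finite H] {S : Subgroup H} {x : H} {p n : ℕ} (hx : orderOf x = p)
    (hn : Nat.Coprime p n) (h : x ^ n ∈ S) : x ∈ S := by
  obtain ⟨m, hm⟩ := exists_pow_eq_self_of_coprime (x := x) (n := n) (by rw [hx]; exact hn.symm)
  rw [← hm]
  exact S.pow_mem h m

theorem arith_one {n s c : ℕ} (h : n * s = c) (h81 : 81 ∣ c) (h5 : 5 ∣ n) (hn : n ≤ 275) (h0 : 0 < n) : 3 ∣ s := by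
  by_contra h3
  have h1 : Nat.Coprime 81 s := by
    have : Nat.Coprime (3 ^ 4) s := Nat.Coprime.pow_left 4 ((Nat.Prime.coprime_iff_not_dvd Nat.prime_three).2 h3)
    simpa using this
  have h2 : 81 ∣ n := h1.dvd_of_dvd_mul_right (by rw [h]; exact h81)
  have h4 : 81 * 5 ∣ n := Nat.Coprime.mul_dvd_of_dvd_of_dvd (by norm_num) h2 h5
  have h6 := Nat.le_of_dvd h0 h4
  omega

/-- An abelian group of order divisible by `5` and `81`: some element of order 5 moves at most 14 points. -/
theorem moved_le {A : Subgroup G} (hA : IsMulCommutative A) (h5 : 5 ∣ Nat.card A) (h81 : 81 ∣ Nat.card A)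
    (hΩ : Nat.card Ω ≤ 275) (h3 : ∀ g : G, orderOf g = 3 → (fixS (Ω := Ω) g).ncard ≤ 14) :
    ∃ x : G, orderOf x = 5 ∧ {p : Ω | x • p ≠ p}.ncard ≤ 14 := by
  have : Fact (Nat.Prime 5) := ⟨by norm_num⟩
  have : Fact (Nat.Prime 3) := ⟨by norm_num⟩
  obtain ⟨x, hx⟩ := exists_prime_orderOf_dvd_card' (G := A) 5 h5
  obtain ⟨b, hb⟩ := exists_prime_orderOf_dvd_card' (G := A) 3 (Dvd.dvd.trans (by norm_num) h81)
  refine ⟨x, by rw [Subgroup.orderOf_coe]; exact hx, ?_⟩
  refine (Set.ncard_le_ncard (fun p hp => ?_) (Set.toFinite (fixS (Ω := Ω) (b : G)))).trans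
    (h3 b (by rw [Subgroup.orderOf_coe]; exact hb))
  have hS : (MulAction.stabilizer A p).Normal := normal_of_comm hA _
  have h1 := MulAction.index_stabilizer A p
  have h2 := (MulAction.stabilizer A p).index_mul_card
  have hle : (MulAction.stabilizer A p).index ≤ 275 := by
    rw [h1]
    refine (Set.ncard_le_ncard (Set.subset_univ _) Set.finite_univ).trans ?_
    rw [Set.ncard_univ]
    exact hΩ
  have h0 : 0 < (MulAction.stabilizer A p).index := Nat.pos_of_ne_zero Subgroup.FiniteIndex.index_ne_zero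
  have h5n : 5 ∣ (MulAction.stabilizer A p).index := by
    by_contra hcon
    apply hp
    exact mem_of_pow (S := MulAction.stabilizer A p) hx ((Nat.Prime.coprime_iff_not_dvd (by norm_num)).2 hcon)
      (Subgroup.pow_index_mem _ x)
  have h3s := arith_one h2 h81 h5n hle h0
  obtain ⟨c, hc⟩ := exists_prime_orderOf_dvd_card' (G := MulAction.stabilizer A p) 3 h3s
  have hle2 : (MulAction.stabilizer A p).index ≤ 14 := by
    rw [h1]
    refine (Set.ncard_le_ncard ?_ (Set.toFinite (fixS (Ω := Ω) ((c : A) : G)))).trans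
      (h3 ((c : A) : G) (by rw [Subgroup.orderOf_coe, Subgroup.orderOf_coe]; exact hc))
    rintro _ ⟨a, rfl⟩
    show ((c : A) : G) • ((a : G) • p) = (a : G) • p
    have hcp : ((c : A) : G) • p = p := c.2
    rw [← mul_smul, comm_iff.1 hA (c : A) (c : A).2 a a.2, mul_smul, hcp]
  have h10 : (MulAction.stabilizer A p).index = 5 ∨ (MulAction.stabilizer A p).index = 10 := by omega
  have hb1 : b ∈ MulAction.stabilizer A p := by
    refine mem_of_pow (S := MulAction.stabilizer A p) hb ?_ (Subgroup.pow_index_mem _ b)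
    rcases h10 with h | h <;> rw [h] <;> norm_num
  exact hb1

theorem arith_two {s : ℕ} (h1 : s ∣ 125) (h2 : s ∣ 3265920) : s ∣ 5 := by
  have := Nat.dvd_gcd h1 h2
  norm_num at this
  exact this

/-- Every element of order 5 moves more than 14 points. -/
theorem moved_gt (hG : Nat.card G = 898128000) (hΩ : Nat.card Ω = 275)
    (hst : ∀ p : Ω, Nat.card (MulAction.stabilizer G p) = 3265920) (hf : ∀ g : G, (∀ p : Ω, g • p = p) → g = 1)
    {x : G} (hx : orderOf x = 5) : 14 < {p : Ω | x • p ≠ p}.ncard := by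
  have : Fact (Nat.Prime 5) := ⟨by norm_num⟩
  have hzx : IsPGroup 5 (zpowers x) := IsPGroup.of_card (n := 1) (by rw [Nat.card_zpowers, hx, pow_one])
  obtain ⟨S, hS⟩ := hzx.exists_le_sylow
  have hxS : x ∈ (S : Subgroup G) := hS (mem_zpowers x)
  have hSc : Nat.card (S : Subgroup G) = 125 := by
    rw [Sylow.card_eq_multiplicity, hG]
    have h4 : (898128000 : ℕ).factorization 5 = 3 := by
      rw [show (898128000 : ℕ) = 5 ^ 3 * 7185024 by norm_num, Nat.factorization_mul (by norm_num) (by norm_num),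
        Finsupp.add_apply, Nat.factorization_pow, Finsupp.smul_apply, Nat.Prime.factorization_self (by norm_num),
        Nat.factorization_eq_zero_of_not_dvd (by norm_num)]
      rfl
    rw [h4]
    norm_num
  -- stabilizers in `S`
  have hstS : ∀ p : Ω, Nat.card (MulAction.stabilizer (S : Subgroup G) p) ∣ 5 := by
    intro p
    apply arith_two
    · rw [← hSc]
      exact Subgroup.card_subgroup_dvd_card _
    · have h1 : Nat.card ((MulAction.stabilizer (S : Subgroup G) p).map (S : Subgroup G).subtype) =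
          Nat.card (MulAction.stabilizer (S : Subgroup G) p) :=
        Subgroup.card_map_of_injective (Subgroup.subtype_injective _)
      rw [← hst p, ← h1]
      apply Subgroup.card_dvd_of_le
      rintro _ ⟨a, ha, rfl⟩
      exact ha
  obtain ⟨p, hp⟩ : ∃ p : Ω, x • p ≠ p := by
    by_contra hcon
    push Not at hcon
    rw [hf x hcon, orderOf_one] at hx
    omega
  by_cases hcase : ∀ s ∈ (S : Subgroup G), s * x * s⁻¹ ∈ zpowers x
  · -- the orbit of a moved point
    have h1 : (MulAction.orbit (S : Subgroup G) p).ncard ≤ {p : Ω | x • p ≠ p}.ncard := by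
      refine Set.ncard_le_ncard ?_ (Set.toFinite _)
      rintro _ ⟨s, rfl⟩
      show x • ((s : G) • p) ≠ (s : G) • p
      intro h
      apply hp
      have h2 := hcase (s : G)⁻¹ (inv_mem s.2)
      have h3 : ((s : G)⁻¹ * x * (s : G)) ∈ MulAction.stabilizer G p := by
        rw [MulAction.mem_stabilizer_iff, mul_smul, mul_smul, h, inv_smul_smul]
      rw [inv_inv] at h2
      have h4 : orderOf ((s : G)⁻¹ * x * (s : G)) = 5 := by
        refine Eq.trans ?_ hx
        have := orderOf_injective (MulAut.conj (s : G)⁻¹).toMonoidHom (MulAut.conj (s : G)⁻¹).injective x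
        simpa [MulAut.conj_apply] using this
      have h5 : zpowers ((s : G)⁻¹ * x * (s : G)) = zpowers x := by
        apply Subgroup.eq_of_le_of_card_ge
        · rwa [zpowers_le]
        · rw [Nat.card_zpowers, Nat.card_zpowers, h4, hx]
      have h6 : zpowers x ≤ MulAction.stabilizer G p := by
        rw [← h5, zpowers_le]
        exact h3
      exact h6 (mem_zpowers x)
    have h2 := MulAction.index_stabilizer (S : Subgroup G) p
    have h3 := (MulAction.stabilizer (S : Subgroup G) p).index_mul_card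
    have h4 := Nat.le_of_dvd (by norm_num) (hstS p)
    rw [hSc] at h3
    rw [← h2] at h1
    have h5 : 25 ≤ (MulAction.stabilizer (S : Subgroup G) p).index := by
      by_contra hcon
      push Not at hcon
      have : (MulAction.stabilizer (S : Subgroup G) p).index * Nat.card (MulAction.stabilizer (S : Subgroup G) p) ≤
          24 * 5 := Nat.mul_le_mul (by omega) h4
      omega
    omega
  · push Not at hcase
    obtain ⟨s, hs, hsx⟩ := hcase
    have hdisj : Disjoint (fixS (Ω := Ω) x) (fixS (Ω := Ω) (s * x * s⁻¹)) := by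
      rw [Set.disjoint_left]
      intro q hq1 hq2
      apply hsx
      have h1 : (⟨x, hxS⟩ : (S : Subgroup G)) ∈ MulAction.stabilizer (S : Subgroup G) q := hq1
      have hyS : s * x * s⁻¹ ∈ (S : Subgroup G) := mul_mem (mul_mem hs hxS) (inv_mem hs)
      have h2 : (⟨s * x * s⁻¹, hyS⟩ : (S : Subgroup G)) ∈ MulAction.stabilizer (S : Subgroup G) q := hq2
      have h3 : zpowers (⟨x, hxS⟩ : (S : Subgroup G)) = MulAction.stabilizer (S : Subgroup G) q := by
        apply Subgroup.eq_of_le_of_card_ge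
        · rwa [zpowers_le]
        · rw [Nat.card_zpowers, Subgroup.orderOf_mk, hx]
          exact Nat.le_of_dvd (by norm_num) (hstS q)
      rw [← h3, mem_zpowers_iff] at h2
      obtain ⟨k, hk⟩ := h2
      rw [mem_zpowers_iff]
      exact ⟨k, congrArg Subtype.val hk⟩
    have heq : (fixS (Ω := Ω) (s * x * s⁻¹)).ncard = (fixS (Ω := Ω) x).ncard := by
      rw [← Set.ncard_image_of_injective (fixS (Ω := Ω) x) (MulAction.injective s)]
      congr 1
      ext q
      rw [Set.mem_image]
      constructor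
      · intro hq
        refine ⟨s⁻¹ • q, ?_, smul_inv_smul s q⟩
        rw [mem_fixS] at hq ⊢
        rw [mul_smul, mul_smul] at hq
        rw [eq_inv_smul_iff]
        exact hq
      · rintro ⟨r, hr, rfl⟩
        rw [mem_fixS] at hr ⊢
        rw [mul_smul, mul_smul, inv_smul_smul, hr]
    have hle : (fixS (Ω := Ω) x).ncard + (fixS (Ω := Ω) (s * x * s⁻¹)).ncard ≤ 275 := by
      rw [← Set.ncard_union_eq hdisj (Set.toFinite _) (Set.toFinite _), ← hΩ, ← Set.ncard_univ]
      exact Set.ncard_le_ncard (Set.subset_univ _) Set.finite_univ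
    have hcompl : (fixS (Ω := Ω) x).ncard + {p : Ω | x • p ≠ p}.ncard = 275 := by
      have h1 : {p : Ω | x • p ≠ p} = (fixS (Ω := Ω) x)ᶜ := rfl
      rw [h1, ← hΩ]
      exact Set.ncard_add_ncard_compl _ (Set.toFinite _) (Set.toFinite _)
    omega

/-- no abelian subgroup has order divisible by `5` and `81` -/
theorem not_dvd_of_act (hG : Nat.card G = 898128000) (hΩ : Nat.card Ω = 275)
    (hst : ∀ p : Ω, Nat.card (MulAction.stabilizer G p) = 3265920) (hf : ∀ g : G, (∀ p : Ω, g • p = p) → g = 1)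
    (h3 : ∀ g : G, orderOf g = 3 → (fixS (Ω := Ω) g).ncard ≤ 14) : Fb (5 * 81) G := by
  intro A hA hd
  obtain ⟨x, hx, hle⟩ := moved_le hA ((dvd_mul_right 5 81).trans hd) ((dvd_mul_left 81 5).trans hd) hΩ.le h3
  have := moved_gt hG hΩ hst hf hx
  omega

end core

/-! ### The group `McL` -/

open Cfsg.Agent.H904.McLCent in
theorem fb_405 {G : Type*} [Group G] [Finite G] (h : Spor.IsoMcL G) : Fb (5 * 81) G := by
  obtain ⟨θ, R⟩ := exists_rep h
  have hG := card_L h
  let _ : MulAction G (Fin 275) := MulAction.compHom (Fin 275) θ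
  have hsm : ∀ (g : G) (i : Fin 275), g • i = θ g i := fun g i => rfl
  have htr : ∀ p : Fin 275, MulAction.orbit G p = Set.univ := by
    intro p
    obtain ⟨a, ha⟩ := AbMcLFix.transitive R p
    rw [Set.eq_univ_iff_forall]
    intro q
    obtain ⟨b, hb⟩ := AbMcLFix.transitive R q
    refine ⟨b * a⁻¹, ?_⟩
    show θ (b * a⁻¹) p = q
    rw [← ha, map_mul, map_inv, Equiv.Perm.mul_apply]
    have : (θ a)⁻¹ (θ a 0) = 0 := Equiv.symm_apply_apply (θ a) 0
    rw [this, hb]
  refine not_dvd_of_act (Ω := Fin 275) hG (by rw [Nat.card_fin]) (fun p => ?_) (fun g hg => ?_) fun g hg => ?_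
  · have h1 := MulAction.index_stabilizer G p
    have h2 := (MulAction.stabilizer G p).index_mul_card
    rw [h1, htr p, Set.ncard_univ, Nat.card_fin, hG] at h2
    omega
  · apply R.inj
    rw [map_one]
    exact Equiv.ext hg
  · have h1 := AbMcLFix.fx_le h R hg
    rw [AbMcLFix.fx, ← Set.ncard_coe_finset] at h1
    convert h1 using 2
    ext i
    simp [mem_fixS, hsm]

/-- the groups between `McL` and the permutations of the Leech lattice with Sylow 5-subgroups of order 125 -/
theorem fb_125_of (X : Subgroup (Equiv.Perm leechLattice)) [Finite X] (h4 : ¬ 5 ^ 4 ∣ Nat.card X)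
    (hM : ∀ g ∈ Spor.McL, g ∈ X) : Fb (5 ^ 3) X := by
  have : Fact (Nat.Prime 5) := ⟨by norm_num⟩
  refine fb_of_sylow h4 fun P => ?_
  have hA := hM _ H573.Spor.McLFive.memA
  have hB := hM _ H573.Spor.McLFive.memB
  have hC := hM _ H573.Spor.McLFive.memC
  have ca : ∀ {g : Cfsg.Co0} (_ : g ^ 5 = 1) (hg : g.1 ∈ X), (⟨g.1, hg⟩ : X) ^ 5 ^ 1 = 1 := fun {g} h hg => by
    rw [pow_one]
    exact Subtype.ext (show g.1 ^ 5 = 1 from congrArg Subtype.val h)
  refine H573.not_comm_of_class_two (a := ⟨H573.Spor.McLFive.gA.1, hA⟩) (b := ⟨H573.Spor.McLFive.gB.1, hB⟩)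
    (c := ⟨H573.Spor.McLFive.gC.1, hC⟩) (i := 1) (j := 1) (k := 1) (ca H573.Spor.McLFive.a_pow hA)
    (ca H573.Spor.McLFive.b_pow hB) (ca H573.Spor.McLFive.c_pow hC)
    (Subtype.ext (show H573.Spor.McLFive.gA.1 * H573.Spor.McLFive.gC.1 =
      H573.Spor.McLFive.gC.1 * H573.Spor.McLFive.gA.1 from congrArg Subtype.val H573.Spor.McLFive.ac))
    (Subtype.ext (show H573.Spor.McLFive.gB.1 * H573.Spor.McLFive.gC.1 =
      H573.Spor.McLFive.gC.1 * H573.Spor.McLFive.gB.1 from congrArg Subtype.val H573.Spor.McLFive.bc))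
    (Subtype.ext (show H573.Spor.McLFive.gA.1 * H573.Spor.McLFive.gB.1 =
      H573.Spor.McLFive.gB.1 * H573.Spor.McLFive.gA.1 * H573.Spor.McLFive.gC.1 from
      congrArg Subtype.val H573.Spor.McLFive.ab)) ?_ P
  intro h'
  have h1 : H573.Spor.McLFive.gA * H573.Spor.McLFive.gB = H573.Spor.McLFive.gB * H573.Spor.McLFive.gA :=
    Subtype.ext (show H573.Spor.McLFive.gA.1 * H573.Spor.McLFive.gB.1 =
      H573.Spor.McLFive.gB.1 * H573.Spor.McLFive.gA.1 from congrArg Subtype.val h')
  rw [H573.Spor.McLFive.ab] at h1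
  exact H573.Spor.McLFive.c_ne (mul_eq_left.1 h1)

theorem fb_125 : Fb (5 ^ 3) Spor.McL := by
  have hc : Nat.card Spor.McL = 898128000 := Cfsg.Agent.H904.McLCent.card_L ⟨MulEquiv.refl _⟩
  have hfin : Finite Spor.McL := Nat.finite_of_card_ne_zero (by rw [hc]; norm_num)
  exact fb_125_of Spor.McL (by rw [hc]; norm_num) fun g hg => hg

open Cfsg.Agent.TypeM.Two Cfsg.Agent.SporRec.TwoAn Cfsg.Agent.TypeM.CoverTools in
theorem abLE_two {G : Type*} [Group G] [Finite G] (L : MT 8 G) {s : G} (hs : orderOf s = 2) :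
    AbLE 283 ↥(centralizer ({s} : Set G)) := by
  obtain ⟨hs1, hs2⟩ := MT.sq_of_orderOf hs
  obtain ⟨L', rfl⟩ := L.exists_rebase hs1 hs2
  obtain ⟨π, hπ, hπ'⟩ := exists_isCover_of L'.K (by norm_num)
  have : IsSimpleGroup ↥(alternatingGroup (Fin 8)) := alternatingGroup.isSimpleGroup (by simp)
  have hsurj : Function.Surjective π := hπ.surj
  have hker : Nat.card π.ker ≤ 2 := by
    have h1 : (π.ker : Set ↥(centralizer ({L'.t} : Set G))) ⊆ {1, L'.K.z} := by
      intro x hx
      have h2 : π x = 1 := hx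
      have h3 : L'.K.π x = 1 := by rw [← hπ', h2]; rfl
      rcases (L'.K.ker x).1 h3 with h | h
      · left; exact h
      · right; exact h
    have h2 := Set.ncard_le_ncard h1 (Set.toFinite _)
    rw [← Nat.card_coe_set_eq] at h2
    refine h2.trans ((Set.ncard_insert_le _ _).trans ?_)
    rw [Set.ncard_singleton]
  have hcard : Nat.card ↥(centralizer ({L'.t} : Set G)) ≤ 40320 := by
    have h1 := π.ker.card_mul_index
    rw [Subgroup.index_ker, MonoidHom.range_eq_top.2 hsurj, Subgroup.card_top] at h1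
    have h2 : Nat.card (alternatingGroup (Fin 8)) = 20160 := by
      rw [Nat.card_eq_fintype_card]
      have := two_mul_card_alternatingGroup (α := Fin 8)
      rw [Fintype.card_perm, Fintype.card_fin] at this
      have h8 : Nat.factorial 8 = 40320 := rfl
      omega
    rw [h2] at h1
    rw [← h1]
    exact (Nat.mul_le_mul_right _ hker).trans (by norm_num)
  refine abLE_of_simple (k := 2) ?_ hsurj hker (by omega)
  refine ⟨⟨Equiv.swap 0 1 * Equiv.swap 1 2, Equiv.Perm.mem_alternatingGroup.2 (by decide)⟩,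
    ⟨Equiv.swap 1 2 * Equiv.swap 2 3, Equiv.Perm.mem_alternatingGroup.2 (by decide)⟩, fun h => ?_⟩
  exact absurd (congrArg (fun g : Equiv.Perm (Fin 8) => g 0) (congrArg Subtype.val h)) (by decide)

theorem ab3_McL {G : Type*} [Group G] [Finite G] [IsSimpleGroup G] (h : Cfsg.Spor.IsoMcL G) : Ab3 G := by
  obtain ⟨-, -, hc, ⟨L⟩⟩ := TypeM.FactsMcL.facts h
  have h2 : CA 2 (List.range' 1 283) G := by
    intro A hA hd
    refine ⟨Nat.card A, ?_, dvd_rfl⟩
    rw [List.mem_range'_1]
    have h1 := ca_of_abLE Nat.prime_two (fun x hx => abLE_two L hx) A hA hd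
    have h3 : 0 < Nat.card A := Nat.card_pos
    omega
  have h5 : Fb (5 * 81) G := fb_405 h
  have h125 : Fb (5 ^ 3) G := by
    obtain ⟨e⟩ := h
    exact fb_125.congr e.symm
  have hcent : ∀ {p c : ℕ}, p.Prime → (∀ P : Subgroup G, Nat.card P = p → Nat.card (centralizer (P : Set G)) ∣ c) →
      CA p [c] G := by
    intro p c hp hP
    refine ca_of_cent hp fun x hx => ?_
    have h1 := hP (zpowers x) (by rw [Nat.card_zpowers, hx])
    rwa [zpowers_eq_closure, centralizer_closure] at h1
  have h7 : CA 7 [14] G := hcent (by norm_num) fun P hP => (Cfsg.Agent.H904.McLCent.seven h P hP).1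
  have h11 : CA 11 [11] G := hcent (by norm_num) fun P hP => by
    rw [(Cfsg.Agent.H904.McLCent.eleven h P hP).1]
  refine ab3_of_chk3 hc [(2, 7), (3, 6), (5, 3), (7, 1), (11, 1)] (by decide +kernel)
    [(2, List.range' 1 283), (5 * 81, []), (5 ^ 3, []), (7, [14]), (11, [11])] ?_ (by decide +kernel)
  intro d hd
  rw [List.mem_cons, List.mem_cons, List.mem_cons, List.mem_cons, List.mem_singleton] at hd
  rcases hd with rfl | rfl | rfl | rfl | rfl
  · exact h2
  · exact h5.ca
  · exact h125.ca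
  · exact h7
  · exact h11

end Cfsg.Agent.H993.AbMcL
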