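import Cfsg.Agent.H993.ExtTwo
import Cfsg.Agent.H936.DSClass
import Cfsg.Agent.H477.HC.RowO
import Cfsg.Agent.GTwoFour.Glue

/-!
# Row `PSp_{2m}(q)`, `q` odd (helper993, S4832, task EXT-C1)
-/

set_option autoImplicit false

open scoped ComplexConjugate
open Cfsg

namespace Cfsg.Agent.H993.ExtPSp

open Cfsg.Agent.Characters Module Cfsg.Agent.H53.HC Cfsg.Agent.H477.HC Cfsg.Agent.H576.Ext Cfsg.Agent.H993.ExtTwo
open Cfsg.Agent.ClassicalGeometry.SympAutSemi

universe u

variable {K : Type u} [Field K] {m : ℕ}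

/-- the projection of the isometry group -/
noncomputable def qSp (m : ℕ) (K : Type u) [Field K] : (⊤ : Subgroup (CForm.spF K m).iso) →* PSp m K :=
  ((QuotientGroup.mk' (Subgroup.center (Matrix.symplecticGroup (Fin m) K))).comp
    (isoSp m K).symm.toMonoidHom).comp (⊤ : Subgroup (CForm.spF K m).iso).subtype

theorem qSp_apply (A : Matrix.symplecticGroup (Fin m) K) :
    qSp m K ⟨isoSp m K A, Subgroup.mem_top _⟩ = QuotientGroup.mk A := by
  change (QuotientGroup.mk ((isoSp m K).symm (isoSp m K A)) : PSp m K) = _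
  rw [MulEquiv.symm_apply_apply]

theorem exists_isoSp (n : (⊤ : Subgroup (CForm.spF K m).iso)) :
    ∃ A : Matrix.symplecticGroup (Fin m) K, n = ⟨isoSp m K A, Subgroup.mem_top _⟩ :=
  ⟨(isoSp m K).symm n, Subtype.ext ((isoSp m K).apply_symm_apply _).symm⟩

theorem qSp_surjective : Function.Surjective (qSp m K) := by
  intro x
  obtain ⟨A, rfl⟩ := QuotientGroup.mk_surjective x
  exact ⟨_, qSp_apply A⟩

/-- the semisimilarity of an element of `semiSim` -/
theorem exists_semi_ind (g : semiSim m K) : ∃ s : Semi (CForm.spF K m), Ind (qSp m K) (Psi m K g) s := by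
  obtain ⟨φ, l, hl, hadd, hsmul, hform⟩ := g.2
  let s : Semi (CForm.spF K m) :=
    { τ := φ
      lam := l
      hlam := hl
      γ := { g.1 with map_add' := hadd }
      smul := hsmul
      hB := fun v w => by
        rw [spF_B_eq, spF_B_eq, map_neg, mul_neg]
        exact congrArg Neg.neg (hform v w)
      hQ := fun v => by simp }
  let e : (⊤ : Subgroup (CForm.spF K m).iso) ≃* Matrix.symplecticGroup (Fin m) K :=
    Subgroup.topEquiv.trans (isoSp m K).symm
  refine ⟨s, (e.trans (conjHom m K g)).trans e.symm, ?_, ?_⟩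
  · intro n v
    obtain ⟨A, rfl⟩ := exists_isoSp n
    have he : e ⟨isoSp m K A, Subgroup.mem_top _⟩ = A := (isoSp m K).symm_apply_apply A
    change ((isoSp m K (conjHom m K g (e ⟨isoSp m K A, Subgroup.mem_top _⟩)) : (CForm.spF K m).iso) :
      (Fin m ⊕ Fin m → K) ≃ₗ[K] (Fin m ⊕ Fin m → K)) (g.1 v) = g.1 _
    rw [he, isoSp_apply, ← rho_apply, rho_conjHom]
    change g.1 (rho m K A (g.1⁻¹ (g.1 v))) = _
    rw [perm_inv_apply_self]
    rfl
  · intro n
    obtain ⟨A, rfl⟩ := exists_isoSp n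
    have he : e ⟨isoSp m K A, Subgroup.mem_top _⟩ = A := (isoSp m K).symm_apply_apply A
    rw [qSp_apply, Psi_mk]
    change qSp m K ⟨isoSp m K (conjHom m K g (e ⟨isoSp m K A, Subgroup.mem_top _⟩)), Subgroup.mem_top _⟩ = _
    rw [he, qSp_apply]

theorem exists_ind [Finite K] (hm : 2 ≤ m) (h2 : (2 : K) ≠ 0) (α : MulAut (PSp m K)) :
    ∃ s : Semi (CForm.spF K m), Ind (qSp m K) α s := by
  obtain ⟨g, rfl⟩ := Cfsg.Agent.ClassicalGeometry.SympAutExists.exists_semi hm α
    (Cfsg.Agent.ClassicalGeometry.SympAutOddA.recog hm (Or.inr h2) α)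
  exact exists_semi_ind g

/-- nonsquares -/
theorem isSquare_cases [Finite K] {a b : K} (ha : a ≠ 0) (hb : b ≠ 0) :
    IsSquare a ∨ IsSquare b ∨ ∃ μ : K, μ ≠ 0 ∧ a = μ * μ * b := by
  classical
  let _ := Fintype.ofFinite K
  by_cases h1 : IsSquare a
  · exact Or.inl h1
  by_cases h2 : IsSquare b
  · exact Or.inr (Or.inl h2)
  refine Or.inr (Or.inr ?_)
  have h3 : quadraticChar K a = -1 := (quadraticChar_dichotomy ha).resolve_left fun h =>
    h1 ((quadraticChar_one_iff_isSquare ha).1 h)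
  have h4 : quadraticChar K b = -1 := (quadraticChar_dichotomy hb).resolve_left fun h =>
    h2 ((quadraticChar_one_iff_isSquare hb).1 h)
  have h5 : quadraticChar K (a * b) = 1 := by rw [map_mul, h3, h4]; norm_num
  obtain ⟨c, hc⟩ := (quadraticChar_one_iff_isSquare (mul_ne_zero ha hb)).1 h5
  have hc0 : c ≠ 0 := by
    rintro rfl
    rw [zero_mul] at hc
    exact mul_ne_zero ha hb hc
  refine ⟨c * b⁻¹, mul_ne_zero hc0 (inv_ne_zero hb), ?_⟩
  field_simp
  linear_combination hc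

theorem hLin [Finite K] (α α' : MulAut (PSp m K)) (s s' : Semi (CForm.spF K m)) (hs : ∀ x, s.τ x = x)
    (hs' : ∀ x, s'.τ x = x) (h : Ind (qSp m K) α s) (h' : Ind (qSp m K) α' s') :
    α ∈ (MulAut.conj (G := PSp m K)).range ∨ α' ∈ (MulAut.conj (G := PSp m K)).range ∨
      α * α'⁻¹ ∈ (MulAut.conj (G := PSp m K)).range := by
  have key : ∀ (α α' : MulAut (PSp m K)) (s s' : Semi (CForm.spF K m)), (∀ x, s.τ x = x) → (∀ x, s'.τ x = x) →
      Ind (qSp m K) α s → Ind (qSp m K) α' s' → (∃ μ : K, μ ≠ 0 ∧ s.lam = μ * μ * s'.lam) →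
      α * α'⁻¹ ∈ (MulAut.conj (G := PSp m K)).range := by
    rintro α α' s s' hs hs' h h' ⟨μ, hμ, hl⟩
    obtain ⟨g, hg⟩ := exists_iso s s' hs hs' hμ (by rw [hl]; rfl)
    exact h.conj qSp_surjective h' ⟨g, Subgroup.mem_top _⟩ hμ hg
  have key' : ∀ (α : MulAut (PSp m K)) (s : Semi (CForm.spF K m)), (∀ x, s.τ x = x) →
      Ind (qSp m K) α s → IsSquare s.lam → α ∈ (MulAut.conj (G := PSp m K)).range := by
    rintro α s hs h ⟨μ, hμ⟩
    have h1 := key α 1 s (semiOne _) hs (fun _ => rfl) h (ind_one _) ⟨μ, fun h0 => s.hlam (by rw [hμ, h0, zero_mul]), by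
      rw [hμ]
      exact (mul_one _).symm⟩
    rwa [inv_one, mul_one] at h1
  rcases isSquare_cases s.hlam s'.hlam with h1 | h1 | h1
  · exact Or.inl (key' α s hs h h1)
  · exact Or.inr (Or.inl (key' α' s' hs' h' h1))
  · exact Or.inr (Or.inr (key α α' s s' hs hs' h h' h1))

theorem hasRoots_top {V : Type*} [AddCommGroup V] [Module K V] (F : CForm K V) : HasRoots F ⊤ :=
  fun _ _ _ _ _ _ _ _ => Subgroup.mem_top _

theorem hker [Finite K] (z : (⊤ : Subgroup (CForm.spF K m).iso)) (hz : qSp m K z = 1) :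
    z ∈ Subgroup.center (⊤ : Subgroup (CForm.spF K m).iso) ∧
      ∃ a : Kˣ, a * Units.map ((CForm.spF K m).σ : K →* K) a = 1 ∧
        ∀ v, ((z : (CForm.spF K m).iso) : (Fin m ⊕ Fin m → K) ≃ₗ[K] (Fin m ⊕ Fin m → K)) v = (a : K) • v := by
  obtain ⟨A, rfl⟩ := exists_isoSp z
  rw [qSp_apply, QuotientGroup.eq_one_iff] at hz
  constructor
  · rw [Subgroup.mem_center_iff] at hz ⊢
    intro g
    obtain ⟨B, rfl⟩ := exists_isoSp g
    apply Subtype.ext
    change isoSp m K B * isoSp m K A = isoSp m K A * isoSp m K B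
    rw [← map_mul, hz, map_mul]
  · rcases Cfsg.Agent.ClassicalGeometry.SympInvolutions.center_eq hz with h | h
    · refine ⟨1, by rw [map_one, mul_one], fun v => ?_⟩
      change ((isoSp m K A : (CForm.spF K m).iso) : (Fin m ⊕ Fin m → K) ≃ₗ[K] (Fin m ⊕ Fin m → K)) v = _
      rw [isoSp_apply, h, Matrix.one_mulVec, Units.val_one, one_smul]
    · refine ⟨-1, ?_, fun v => ?_⟩
      · apply Units.ext
        change (-1 : K) * (-1) = 1
        ring
      · change ((isoSp m K A : (CForm.spF K m).iso) : (Fin m ⊕ Fin m → K) ≃ₗ[K] (Fin m ⊕ Fin m → K)) v = _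
        rw [isoSp_apply, h, Matrix.neg_mulVec, Matrix.one_mulVec, Units.val_neg, Units.val_one, neg_one_smul]

/-- **`PSp_{2m}(q)`, `q ≥ 5` odd, `r ∤ q`** -/
theorem row_psp (K : Type u) [Field K] [Finite K] {m : ℕ} (hm : 2 ≤ m) (ho : Odd (Nat.card K)) (h5 : 5 ≤ Nat.card K)
    [IsSimpleGroup (PSp m K)] (hna : ¬ IsMulCommutative (PSp m K)) {r : ℕ} (hr : r.Prime) (hrq : ¬ r ∣ Nat.card K)
    (hd : r ∣ Nat.card (PSp m K)) : HasExt r (PSp m K) := by
  classical
  obtain ⟨p, hchar⟩ := CharP.exists K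
  have hp : p.Prime := (CharP.char_is_prime_or_zero K p).resolve_right (CharP.char_ne_zero_of_finite K p)
  have : Fact p.Prime := ⟨hp⟩
  have h2 : (2 : K) ≠ 0 := two_ne_zero_of_odd (K := K) (p := p) ho
  obtain ⟨s, hs⟩ := card_pow K p
  have hs0 : s ≠ 0 := by
    rintro rfl
    rw [pow_zero] at hs
    omega
  have hrp : r ≠ p := by
    rintro rfl
    exact hrq (by rw [hs]; exact dvd_pow_self r hs0)
  have hZ : Subgroup.center (PSp m K) = ⊥ := GTwoFour.Glue.center_eq_bot hna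
  -- the general conclusion
  have key : ∀ (k n : ℕ), k + n = m → 2 ≤ k → r ∣ dg (CForm.spF K (k + n)) k → HasExt r (PSp m K) := by
    rintro k n rfl hk hdeg
    obtain ⟨⟨W₀, hW₀⟩, -⟩ := CForm.spF_frame (K := K) (p := p) k n
    obtain ⟨c, hc, hg⟩ := exists_cusG (K := K) rfl k hk (by rintro ⟨h, -⟩; omega) (by rintro ⟨h, -⟩; omega)
    refine hasExt_row hk hW₀ (hasRoots_top _) (hasLevi_top _ ⊥ k) hc hg hZ qSp_surjective hker
      (exists_ind hm h2) hLin hr (a := 1) (by rwa [pow_one]) ?_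
    rw [Subgroup.index_top, pow_one]
    exact fun h => hr.one_lt.ne' (Nat.dvd_one.1 h)
  -- `r` divides some factor
  have hd1 : r ∣ Nat.card (Matrix.symplecticGroup (Fin m) K) := hd.trans (Subgroup.card_quotient_dvd_card _)
  rw [Nat.card_congr (isoSp m K).toEquiv, card_spF] at hd1
  have hd2 : r ∣ ∏ i ∈ Finset.range m, (Nat.card K ^ (2 * (i + 1)) - 1) :=
    (hr.dvd_mul.1 hd1).resolve_left fun h => hrq (hr.dvd_of_dvd_pow h)
  by_cases hA : r ∣ (Nat.card K ^ m + 1) * ∏ i ∈ Finset.range (m - 1), (Nat.card K ^ (2 * (i + 1)) - 1)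
  · refine key m 0 (Nat.add_zero m) hm ?_
    obtain ⟨e, he⟩ := psp_dvd_top K (p := p) (m := m) (by omega)
    have := prime_pow_dvd (t := 1) hr hp hrp (by rw [pow_one]; exact hA.trans he)
    rwa [pow_one] at this
  · have hA1 : ¬ r ∣ Nat.card K ^ m + 1 := fun h => hA (Dvd.dvd.mul_right h _)
    have hA2 : ∀ i, i < m - 1 → ¬ r ∣ Nat.card K ^ (2 * (i + 1)) - 1 := fun i hi h =>
      hA (Dvd.dvd.mul_left (h.trans (Finset.dvd_prod_of_mem (fun i => Nat.card K ^ (2 * (i + 1)) - 1)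
        (Finset.mem_range.2 hi))) _)
    have hB : r ∣ Nat.card K ^ (2 * m) - 1 := by
      obtain ⟨i, hi, hi'⟩ := (Prime.dvd_finsetProd_iff hr.prime _).1 hd2
      rw [Finset.mem_range] at hi
      rcases Nat.lt_or_ge i (m - 1) with h | h
      · exact absurd hi' (hA2 i h)
      · have : i + 1 = m := by omega
        rwa [this] at hi'
    have hB' : r ∣ Nat.card K ^ m - 1 := by
      have h4 : Nat.card K ^ (2 * m) - 1 = (Nat.card K ^ m + 1) * (Nat.card K ^ m - 1) := by
        rw [← Nat.sq_sub_sq, one_pow, ← pow_mul, mul_comm]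
      rw [h4] at hB
      exact (hr.dvd_mul.1 hB).resolve_left hA1
    have hm3 : 3 ≤ m := by
      by_contra h
      have hm2 : m = 2 := by omega
      have := hA2 0 (by omega)
      rw [hm2] at hB'
      exact this hB'
    have hm1 : m - 1 + 1 = m := by omega
    refine key (m - 1) 1 hm1 (by omega) ?_
    obtain ⟨e, he⟩ := psp_dvd K (p := p) (k := m - 1) (n := 1) (by omega)
    have h6 : r ∣ p ^ e * (dg (CForm.spF K (m - 1 + 1)) (m - 1) * (Nat.card K ^ (m - 1) - 1)) := by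
      refine Dvd.dvd.trans ?_ he
      refine Dvd.dvd.trans ?_ (Finset.dvd_prod_of_mem _ (Finset.mem_Ico.2 ⟨(by omega : 1 ≤ m - 1), by omega⟩))
      rw [hm1]
      exact hB
    have h7 : r ∣ dg (CForm.spF K (m - 1 + 1)) (m - 1) * (Nat.card K ^ (m - 1) - 1) := by
      have := prime_pow_dvd (t := 1) hr hp hrp (by rw [pow_one]; exact h6)
      rwa [pow_one] at this
    have h8 : ¬ r ∣ Nat.card K ^ (m - 1) - 1 := by
      intro h
      apply hA2 (m - 2) (by omega)
      refine h.trans ?_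
      have h9 : m - 2 + 1 = m - 1 := by omega
      rw [h9, mul_comm, pow_mul]
      simpa using Nat.sub_dvd_pow_sub_pow (Nat.card K ^ (m - 1)) 1 2
    exact (hr.dvd_mul.1 h7).resolve_right h8

end Cfsg.Agent.H993.ExtPSp
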