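import Cfsg.Agent.H993.ExtOrth
import Cfsg.Agent.H993.ExtPSp
import Cfsg.Agent.AutOrth.Final
import Cfsg.Agent.ClassicalGeometry.OrthSemiForms

/-!
# Row `Ω_{2m+1}(q)`, `q` odd (helper993, S4832, task EXT-C1)
-/

set_option autoImplicit false

open scoped ComplexConjugate
open Cfsg

namespace Cfsg.Agent.H993.ExtOmegaOdd

open Cfsg.Agent.Characters Module Cfsg.Agent.H53.HC Cfsg.Agent.H477.HC Cfsg.Agent.H576.Ext Cfsg.Agent.H993.ExtTwo
open Cfsg.Agent.H993.ExtOrth Cfsg.Agent.H993.ExtPSp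
open QuadraticMap Cfsg.Agent.LieClassical.OrthCore Cfsg.Agent.LieClassical.OrthTrans
  Cfsg.Agent.LieClassical.OrthSimple Cfsg.Agent.LieClassical.OrthFinite Cfsg.Agent.ClassicalGeometry.OrthSemi
  Cfsg.Agent.ClassicalGeometry.OrthSemiForms

universe u v

section general

variable {K : Type u} [Field K] {V : Type v} [AddCommGroup V] [Module K V] {F : CForm K V} {Q : QuadraticForm K V}

variable (F) in
/-- `-1` -/
def negI : F.iso := ⟨LinearEquiv.neg K, fun u v => by
  simp only [LinearEquiv.neg_apply]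
  rw [← neg_one_smul K u, ← neg_one_smul K v, F.B_smul_left, F.B_smul_right, map_neg, map_one]
  ring, fun v => by
  simp only [LinearEquiv.neg_apply]
  rw [← neg_one_smul K v, F.Q_smul, map_neg, map_one]
  ring⟩

theorem negI_apply (v : V) : (negI F : V ≃ₗ[K] V) v = -v := rfl

theorem negI_sq : negI F * negI F = 1 := by
  apply Subtype.ext
  apply LinearEquiv.ext
  intro v
  change - -v = v
  rw [neg_neg]

theorem negI_comm (g : F.iso) : negI F * g = g * negI F := by
  apply Subtype.ext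
  apply LinearEquiv.ext
  intro v
  change -((g : V ≃ₗ[K] V) v) = (g : V ≃ₗ[K] V) (-v)
  rw [map_neg]

/-- `N ∪ -N` -/
def HH (N : Subgroup F.iso) : Subgroup F.iso where
  carrier := {g | g ∈ N ∨ negI F * g ∈ N}
  one_mem' := Or.inl N.one_mem
  mul_mem' := by
    rintro a b (ha | ha) (hb | hb)
    · exact Or.inl (N.mul_mem ha hb)
    · right
      have := N.mul_mem ha hb
      rwa [← mul_assoc, ← negI_comm, mul_assoc] at this
    · right
      have := N.mul_mem ha hb
      rwa [mul_assoc] at this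
    · left
      have := N.mul_mem ha hb
      rwa [negI_comm a, mul_assoc, ← mul_assoc (negI F) (negI F), negI_sq, one_mul] at this
  inv_mem' := by
    rintro a (ha | ha)
    · exact Or.inl (N.inv_mem ha)
    · right
      have h1 := N.inv_mem ha
      have h2 : (negI F)⁻¹ = negI F := inv_eq_of_mul_eq_one_left negI_sq
      rwa [mul_inv_rev, h2, ← negI_comm] at h1

theorem mem_HH {N : Subgroup F.iso} {g : F.iso} : g ∈ HH N ↔ g ∈ N ∨ negI F * g ∈ N := Iff.rfl

/-- two elements, `|F.iso : N| = 4`, `-1 ∉ N` -/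
theorem HH_cases [Finite F.iso] {N : Subgroup F.iso} (h4 : N.index = 4) (hn : negI F ∉ N) (g g' : F.iso) :
    g ∈ HH N ∨ g' ∈ HH N ∨ g * g'⁻¹ ∈ HH N := by
  have hle : N ≤ HH N := fun x hx => Or.inl hx
  have h1 : N.relIndex (HH N) * (HH N).index = 4 := by rw [Subgroup.relIndex_mul_index hle, h4]
  have h2 : N.relIndex (HH N) ≠ 1 := by
    intro h
    rw [Subgroup.relIndex_eq_one] at h
    exact hn (h (Or.inr (by rw [negI_sq]; exact N.one_mem)))
  have h3 : (HH N).index = 1 ∨ (HH N).index = 2 := by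
    have h5 : (HH N).index ∣ 4 := Dvd.intro_left _ h1
    have h6 : (HH N).index ≤ 4 := Nat.le_of_dvd (by norm_num) h5
    interval_cases h : (HH N).index <;> omega
  rcases h3 with h3 | h3
  · rw [Subgroup.index_eq_one] at h3
    exact Or.inl (h3 ▸ Subgroup.mem_top g)
  · by_cases h5 : g ∈ HH N
    · exact Or.inl h5
    by_cases h6 : g' ∈ HH N
    · exact Or.inr (Or.inl h6)
    refine Or.inr (Or.inr ?_)
    rw [Subgroup.mul_mem_iff_of_index_two h3, inv_mem_iff]
    exact iff_of_false h5 h6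

theorem center_quot_of_bot {G : Type u} [Group G] (h : Subgroup.center G = ⊥) :
    Subgroup.center (G ⧸ Subgroup.center G) = ⊥ := by
  rw [Subgroup.eq_bot_iff_forall]
  intro x hx
  obtain ⟨g, rfl⟩ := QuotientGroup.mk_surjective x
  rw [QuotientGroup.eq_one_iff, Subgroup.mem_center_iff]
  intro a
  rw [Subgroup.mem_center_iff] at hx
  have h1 := hx (QuotientGroup.mk a)
  rw [← QuotientGroup.mk_mul, ← QuotientGroup.mk_mul, QuotientGroup.eq, h, Subgroup.mem_bot, inv_mul_eq_one] at h1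
  exact h1

end general

section odd

variable {K : Type u} [Field K] {m : ℕ}

/-- `Ω ≃* E Q` -/
noncomputable def eOm [Finite K] (hm : 2 ≤ m) (h2 : (2 : K) ≠ 0) :
    Omega K ⇑(LieClassical.OrthForms.oddForm m K) ≃* E (LieClassical.OrthForms.oddForm m K) :=
  let _ := Fintype.ofFinite K
  (omegaEquiv _).trans (MulEquiv.subgroupCongr (good_odd hm h2).commutator_eq_E)

theorem center_E [Finite K] {p : ℕ} [Fact p.Prime] [CharP K p] (ho : Odd (Nat.card K)) (hm : 3 ≤ m) :
    Subgroup.center ↥(E (LieClassical.OrthForms.oddForm m K)) = ⊥ := by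
  have h2 := two_ne_zero_of_odd (K := K) (p := p) ho
  have h := (odd_idx K (p := p) ho hm).2
  rw [← LieClassical.OrthForms.coe_oddForm m K] at h
  have h3 : Subgroup.center (Omega K ⇑(LieClassical.OrthForms.oddForm m K)) = ⊥ := by
    rw [Subgroup.eq_bot_iff_forall]
    exact h
  rw [← map_center_mulEquiv (eOm (by omega) h2), h3, Subgroup.map_bot]

theorem index_NE [Finite K] {p : ℕ} [Fact p.Prime] [CharP K p] (ho : Odd (Nat.card K)) (hm : 3 ≤ m)
    (h2 : (2 : K) ≠ 0) : (NE (CForm.oddF K m h2) (LieClassical.OrthForms.oddForm m K)).index = 4 := by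
  have := finite_iso (CForm.oddF K m h2)
  have h := (odd_idx K (p := p) ho hm).1
  rw [← LieClassical.OrthForms.coe_oddForm m K] at h
  have h3 := Subgroup.card_mul_index (Omega K ⇑(LieClassical.OrthForms.oddForm m K))
  have h4 := Subgroup.card_mul_index (NE (CForm.oddF K m h2) (LieClassical.OrthForms.oddForm m K))
  rw [h, Nat.card_congr (eOm (by omega) h2).toEquiv] at h3
  rw [Nat.card_congr (glue_odd h2).equiv.toEquiv] at h4
  have h5 : Nat.card (isometryGroup K ⇑(LieClassical.OrthForms.oddForm m K)) = Nat.card (CForm.oddF K m h2).iso := by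
    rw [LieClassical.OrthForms.coe_oddForm]
    exact Nat.card_congr (isoQuad (CForm.oddF K m h2) (odd_hB K m h2)).toEquiv
  rw [h5, ← h4] at h3
  have h6 : 0 < Nat.card ↥(E (LieClassical.OrthForms.oddForm m K)) := by
    have : 0 < Nat.card (CForm.oddF K m h2).iso := Nat.card_pos
    rw [← h4] at this
    exact Nat.pos_of_mul_pos_right this
  exact (Nat.eq_of_mul_eq_mul_left h6 h3).symm

theorem negI_not_mem [Finite K] {p : ℕ} [Fact p.Prime] [CharP K p] (ho : Odd (Nat.card K)) (hm : 3 ≤ m)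
    (h2 : (2 : K) ≠ 0) :
    negI (CForm.oddF K m h2) ∉ NE (CForm.oddF K m h2) (LieClassical.OrthForms.oddForm m K) := by
  intro h
  have hF := glue_odd (K := K) (m := m) h2
  have h1 : hF.equiv ⟨_, h⟩ ∈ Subgroup.center ↥(E (LieClassical.OrthForms.oddForm m K)) := by
    rw [Subgroup.mem_center_iff]
    intro g
    obtain ⟨n, rfl⟩ := hF.equiv.surjective g
    rw [← map_mul, ← map_mul]
    congr 1
    exact Subtype.ext (negI_comm _).symm
  rw [center_E (p := p) ho hm, Subgroup.mem_bot] at h1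
  have h3 := (map_eq_one_iff _ hF.equiv.injective).1 h1
  have h4 : negI (CForm.oddF K m h2) = 1 := congrArg Subtype.val h3
  have h5 := congrArg (fun g : (CForm.oddF K m h2).iso =>
    (g : (Unit ⊕ (Fin m ⊕ Fin m) → K) ≃ₗ[K] (Unit ⊕ (Fin m ⊕ Fin m) → K)) (Pi.single (Sum.inl ()) 1)
      (Sum.inl ())) h4
  have h6 : -(1 : K) = 1 := by
    have h7 : -((Pi.single (Sum.inl ()) 1 : Unit ⊕ (Fin m ⊕ Fin m) → K) (Sum.inl ())) =
      (Pi.single (Sum.inl ()) 1 : Unit ⊕ (Fin m ⊕ Fin m) → K) (Sum.inl ()) := h5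
    rwa [Pi.single_eq_same] at h7
  apply h2
  linear_combination -h6

/-- a linear similitude is a multiple of an isometry -/
theorem exists_g [Finite K] (hm : 3 ≤ m) (h2 : (2 : K) ≠ 0) (s : Semi (CForm.oddF K m h2)) (hs : ∀ x, s.τ x = x) :
    ∃ μ : K, μ ≠ 0 ∧ ∃ g : (CForm.oddF K m h2).iso, ∀ v, s.γ v = μ • (g : (Unit ⊕ (Fin m ⊕ Fin m) → K) ≃ₗ[K] _) v := by
  let _ := Fintype.ofFinite K
  have hF := glue_odd (K := K) (m := m) h2
  have hτ : s.τ = RingEquiv.refl K := RingEquiv.ext hs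
  have h1 := hF.isSS s
  rw [hτ] at h1
  obtain ⟨μ, hμ⟩ := Cfsg.Agent.ClassicalGeometry.OrthSemiCount.isSquare_of_odd h2
    (good_odd (F := K) (m := m) (by omega) h2).nondeg (by
      rw [Module.finrank_fintype_fun_eq_card, Fintype.card_sum, Fintype.card_sum, Fintype.card_fin,
        Fintype.card_unit]
      exact ⟨m, by ring⟩) h1
  have hμ0 : μ ≠ 0 := fun h0 => s.hlam (by rw [hμ, h0, zero_mul])
  obtain ⟨g, hg⟩ := exists_iso s (semiOne _) hs (fun _ => rfl) hμ0 (by
    rw [hμ]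
    exact (mul_one _).symm)
  exact ⟨μ, hμ0, g, hg⟩

theorem hLinO [Finite K] {p : ℕ} [Fact p.Prime] [CharP K p] (ho : Odd (Nat.card K)) (hm : 3 ≤ m)
    (h2 : (2 : K) ≠ 0) (hF : Glue (CForm.oddF K m h2) (LieClassical.OrthForms.oddForm m K))
    (α α' : MulAut (↥(E (LieClassical.OrthForms.oddForm m K)) ⧸
      Subgroup.center ↥(E (LieClassical.OrthForms.oddForm m K))))
    (s s' : Semi (CForm.oddF K m h2)) (hs : ∀ x, s.τ x = x) (hs' : ∀ x, s'.τ x = x) (h : Ind hF.q α s)
    (h' : Ind hF.q α' s') :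
    α ∈ (MulAut.conj (G := ↥(E (LieClassical.OrthForms.oddForm m K)) ⧸
      Subgroup.center ↥(E (LieClassical.OrthForms.oddForm m K)))).range ∨
    α' ∈ (MulAut.conj (G := ↥(E (LieClassical.OrthForms.oddForm m K)) ⧸
      Subgroup.center ↥(E (LieClassical.OrthForms.oddForm m K)))).range ∨
      α * α'⁻¹ ∈ (MulAut.conj (G := ↥(E (LieClassical.OrthForms.oddForm m K)) ⧸
      Subgroup.center ↥(E (LieClassical.OrthForms.oddForm m K)))).range := by
  have := finite_iso (CForm.oddF K m h2)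
  -- the general step
  have key : ∀ (α α' : MulAut (↥(E (LieClassical.OrthForms.oddForm m K)) ⧸
      Subgroup.center ↥(E (LieClassical.OrthForms.oddForm m K)))) (s s' : Semi (CForm.oddF K m h2)),
      Ind hF.q α s → Ind hF.q α' s' → ∀ (μ : K) (g : (CForm.oddF K m h2).iso), μ ≠ 0 →
      g ∈ HH (NE (CForm.oddF K m h2) (LieClassical.OrthForms.oddForm m K)) →
      (∀ v, s.γ v = μ • (g : (Unit ⊕ (Fin m ⊕ Fin m) → K) ≃ₗ[K] (Unit ⊕ (Fin m ⊕ Fin m) → K)) (s'.γ v)) →
      α * α'⁻¹ ∈ (MulAut.conj (G := ↥(E (LieClassical.OrthForms.oddForm m K)) ⧸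
        Subgroup.center ↥(E (LieClassical.OrthForms.oddForm m K)))).range := by
    intro α α' s s' h h' μ g hμ hg hv
    rcases hg with hg | hg
    · exact h.conj hF.q_surjective h' ⟨g, hg⟩ hμ hv
    · refine h.conj hF.q_surjective h' ⟨_, hg⟩ (neg_ne_zero.2 hμ) fun v => ?_
      rw [hv]
      change _ = (-μ) • -((g : (Unit ⊕ (Fin m ⊕ Fin m) → K) ≃ₗ[K] (Unit ⊕ (Fin m ⊕ Fin m) → K)) (s'.γ v))
      rw [neg_smul_neg]
  obtain ⟨μ, hμ, g, hg⟩ := exists_g hm h2 s hs
  obtain ⟨μ', hμ', g', hg'⟩ := exists_g hm h2 s' hs'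
  rcases HH_cases (index_NE (p := p) ho hm h2) (negI_not_mem (p := p) ho hm h2) g g' with h3 | h3 | h3
  · left
    have h4 := key α 1 s (semiOne _) h (ind_one _) μ g hμ h3 hg
    rwa [inv_one, mul_one] at h4
  · right; left
    have h4 := key α' 1 s' (semiOne _) h' (ind_one _) μ' g' hμ' h3 hg'
    rwa [inv_one, mul_one] at h4
  · right; right
    refine key α α' s s' h h' (μ * μ'⁻¹) (g * g'⁻¹) (mul_ne_zero hμ (inv_ne_zero hμ')) h3 fun v => ?_
    rw [hg, hg', map_smul, smul_smul, mul_assoc, inv_mul_cancel₀ hμ', mul_one]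
    congr 1
    change _ = (g : (Unit ⊕ (Fin m ⊕ Fin m) → K) ≃ₗ[K] (Unit ⊕ (Fin m ⊕ Fin m) → K))
      (((g'⁻¹ * g' : (CForm.oddF K m h2).iso) : (Unit ⊕ (Fin m ⊕ Fin m) → K) ≃ₗ[K] (Unit ⊕ (Fin m ⊕ Fin m) → K)) v)
    rw [inv_mul_cancel]
    rfl

/-- **`Ω_{2m+1}(q)`, `q ≥ 5` odd, `m ≥ 3`, `r ∤ q`** -/
theorem row_omega_odd (K : Type u) [Field K] [Finite K] {m : ℕ} (hm : 3 ≤ m) (ho : Odd (Nat.card K))
    (h5 : 5 ≤ Nat.card K)
    {r : ℕ} (hr : r.Prime) (hrq : ¬ r ∣ Nat.card K)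
    (hd : r ∣ Nat.card (POmega K (quadFormOdd m K))) : HasExt r (POmega K (quadFormOdd m K)) := by
  classical
  let _ := Fintype.ofFinite K
  obtain ⟨p, hchar⟩ := CharP.exists K
  have hp : p.Prime := (CharP.char_is_prime_or_zero K p).resolve_right (CharP.char_ne_zero_of_finite K p)
  have : Fact p.Prime := ⟨hp⟩
  have h2 : (2 : K) ≠ 0 := two_ne_zero_of_odd (K := K) (p := p) ho
  obtain ⟨s, hs⟩ := card_pow K p
  have hs0 : s ≠ 0 := by
    rintro rfl
    have : 1 < Nat.card K := Finite.one_lt_card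
    rw [hs, pow_zero] at this
    omega
  have hrp : r ≠ p := by
    rintro rfl
    exact hrq (by rw [hs]; exact dvd_pow_self r hs0)
  have hq2 : 2 ≤ Nat.card K := Finite.one_lt_card
  have hq3 : 3 ≤ Nat.card K := by rcases ho with ⟨j, hj⟩; omega
  have hd1 : r ∣ Nat.card (isometryGroup K (quadFormOdd m K)) :=
    hd.trans ((Subgroup.card_quotient_dvd_card _).trans (Subgroup.card_subgroup_dvd_card _))
  have hd2 : r ∣ Nat.card (CForm.oddF K m h2).iso := by
    rwa [← Nat.card_congr (isoQuad (CForm.oddF K m h2) (odd_hB K m h2)).toEquiv]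
  rw [card_oddF K h2 ho] at hd2
  -- the general conclusion
  have key : ∀ (k n : ℕ), k + n = m → 2 ≤ k → (r ≠ 2 ∧ r ∣ dg (CForm.oddF K (k + n) h2) k) ∨
      (r = 2 ∧ 16 ∣ dg (CForm.oddF K (k + n) h2) k) → HasExt r (POmega K (quadFormOdd m K)) := by
    rintro k n rfl hk hdeg
    obtain ⟨⟨W₀, hW₀⟩, -⟩ := CForm.oddF_frame (K := K) (p := p) h2 k n
    obtain ⟨c, hc, hg⟩ := exists_cusG (K := K) rfl k hk (by rintro ⟨h, -⟩; omega) (by rintro ⟨h, -⟩; omega)
    have hG := good_odd (F := K) (m := k + n) (by omega) h2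
    have hF := glue_odd (K := K) (m := k + n) h2
    have hcE := center_E (K := K) (m := k + n) (p := p) ho hm
    have := hF.normal
    rw [← LieClassical.OrthForms.coe_oddForm (k + n) K]
    refine HasExt.of_equiv (pomegaEquiv hG) ?_
    have hsimp : IsSimpleGroup (↥(E (LieClassical.OrthForms.oddForm (k + n) K)) ⧸
      Subgroup.center ↥(E (LieClassical.OrthForms.oddForm (k + n) K))) := good_isSimpleGroup hG
    have := finite_iso (CForm.oddF K (k + n) h2)
    have hfin : Finite ↥(E (LieClassical.OrthForms.oddForm (k + n) K)) := Finite.of_equiv _ hF.equiv.toEquiv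
    have hZ : Subgroup.center (↥(E (LieClassical.OrthForms.oddForm (k + n) K)) ⧸
      Subgroup.center ↥(E (LieClassical.OrthForms.oddForm (k + n) K))) = ⊥ := center_quot_of_bot hcE
    refine hasExt_row (a := if r = 2 then 4 else 1) hk hW₀ hF.hasRoots (hasLevi_bot _ hF.hasRoots k) hc hg hZ
      hF.q_surjective (fun z hz => ?_) (fun α => ?_) (hLinO (p := p) ho hm h2 hF) hr ?_ ?_
    · obtain ⟨h3, h4⟩ := hF.mem_center hz
      refine ⟨h3, 1, by rw [map_one, mul_one], fun v => ?_⟩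
      rw [hcE, Subgroup.mem_bot] at h4
      have h5 := (map_eq_one_iff _ hF.equiv.injective).1 h4
      rw [h5, Units.val_one, one_smul]
      rfl
    · obtain ⟨M, rfl⟩ := Cfsg.Agent.AutOrth.Final.surjective_odd (F := K) hm h2 α
      exact hF.exists_ind M
    · rcases hdeg with ⟨h3, h4⟩ | ⟨h3, h4⟩
      · rwa [if_neg h3, pow_one]
      · rw [if_pos h3, h3]
        exact h4
    · rw [index_NE (p := p) ho hm h2]
      rcases hdeg with ⟨h3, h4⟩ | ⟨h3, h4⟩
      · rw [if_neg h3, pow_one]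
        intro h6
        exact h3 ((Nat.prime_dvd_prime_iff_eq hr Nat.prime_two).1 (hr.dvd_of_dvd_pow (n := 2) h6))
      · rw [if_pos h3, h3]
        norm_num
  have hpi : ∀ (t : Finset ℕ), r ∣ ∏ i ∈ t, (Nat.card K ^ (2 * (i + 1)) - 1) →
      ∃ i ∈ t, r ∣ Nat.card K ^ (2 * (i + 1)) - 1 := fun t h => (Prime.dvd_finsetProd_iff hr.prime _).1 h
  by_cases h2r : r = 2
  · -- `r = 2`
    refine key m 0 (Nat.add_zero m) (by omega) (Or.inr ⟨h2r, ?_⟩)
    obtain ⟨e, he⟩ := odd_dvd_top K h2 ho (p := p) (m := m) (by omega)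
    refine sixteen_dvd ho hp (by rw [← h2r]; exact hrp) (Dvd.dvd.trans ?_ he)
    refine Dvd.dvd.mul_left ?_ _
    rw [← Finset.prod_range_mul_prod_Ico _ (show 2 ≤ m - 1 by omega), Finset.prod_range_succ, Finset.prod_range_one]
    exact Dvd.intro _ rfl
  by_cases hA : r ∣ (Nat.card K ^ m + 1) * ∏ i ∈ Finset.range (m - 1), (Nat.card K ^ (2 * (i + 1)) - 1)
  · refine key m 0 (Nat.add_zero m) (by omega) (Or.inl ⟨h2r, ?_⟩)
    obtain ⟨e, he⟩ := odd_dvd_top K h2 ho (p := p) (m := m) (by omega)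
    have := prime_pow_dvd (t := 1) hr hp hrp (by rw [pow_one]; exact hA.trans he)
    rwa [pow_one] at this
  · have hA1 : ¬ r ∣ Nat.card K ^ m + 1 := fun h => hA (Dvd.dvd.mul_right h _)
    have hA2 : ∀ i, i < m - 1 → ¬ r ∣ Nat.card K ^ (2 * (i + 1)) - 1 := fun i hi h =>
      hA (Dvd.dvd.mul_left (h.trans (Finset.dvd_prod_of_mem (fun i => Nat.card K ^ (2 * (i + 1)) - 1)
        (Finset.mem_range.2 hi))) _)
    have hB : r ∣ Nat.card K ^ (2 * m) - 1 := by
      have h3 : r ∣ ∏ i ∈ Finset.range m, (Nat.card K ^ (2 * (i + 1)) - 1) := by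
        rcases hr.dvd_mul.1 hd2 with h | h
        · rcases hr.dvd_mul.1 h with h' | h'
          · exact absurd ((Nat.prime_dvd_prime_iff_eq hr Nat.prime_two).1 h') h2r
          · exact absurd (hr.dvd_of_dvd_pow h') hrq
        · exact h
      obtain ⟨i, hi, hi'⟩ := hpi _ h3
      rw [Finset.mem_range] at hi
      rcases Nat.lt_or_ge i (m - 1) with h | h
      · exact absurd hi' (hA2 i h)
      · have : i + 1 = m := by omega
        rwa [this] at hi'
    have hm1 : m - 1 + 1 = m := by omega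
    refine key (m - 1) 1 hm1 (by omega) (Or.inl ⟨h2r, ?_⟩)
    obtain ⟨e, he⟩ := odd_dvd K h2 ho (p := p) (k := m - 1) (n := 1) (by omega)
    have h6 : r ∣ p ^ e * (dg (CForm.oddF K (m - 1 + 1) h2) (m - 1) * (Nat.card K ^ (m - 1) - 1)) := by
      refine Dvd.dvd.trans ?_ he
      refine Dvd.dvd.trans ?_ (Finset.dvd_prod_of_mem _ (Finset.mem_Ico.2 ⟨(by omega : 1 ≤ m - 1), by omega⟩))
      rw [hm1]
      exact hB
    have h7 : r ∣ dg (CForm.oddF K (m - 1 + 1) h2) (m - 1) * (Nat.card K ^ (m - 1) - 1) := by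
      have := prime_pow_dvd (t := 1) hr hp hrp (by rw [pow_one]; exact h6)
      rwa [pow_one] at this
    refine (hr.dvd_mul.1 h7).resolve_right fun h => ?_
    apply hA2 (m - 2) (by omega)
    have h9 : m - 2 + 1 = m - 1 := by omega
    rw [h9]
    exact h.trans (pow_sub_dvd _ _)

end odd

end Cfsg.Agent.H993.ExtOmegaOdd
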