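import Cfsg.Agent.H670.Palfy.Five

/-!
# `FactSL` from the faithful case (helper993)

* `uf_map` : `UF` passes to a quotient acting compatibly;
* `sld_comap` : `SLD` pulls back;
* `factSL_of_faithful`.
-/

set_option autoImplicit false

namespace Cfsg.Agent.H993.SLFaith

open Cfsg.Agent.H670.Palfy

universe u v

section

variable {H X : Type u} {V : Type v} [Group H] [Group X] [AddCommGroup V] [DistribMulAction H V]
  [DistribMulAction X V] {f : H →* X}

theorem mem_ker_iff (hc : ∀ (h : H) (v : V), f h • v = h • v) (h : H) : f h ∈ Ker X V ↔ h ∈ Ker H V := by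
  rw [mem_Ker, mem_Ker]
  exact forall_congr' fun v => by rw [hc]

theorem comap_Ker (hc : ∀ (h : H) (v : V), f h • v = h • v) : (Ker X V).comap f = Ker H V := by
  ext h
  exact mem_ker_iff hc h

theorem comap_stabilizer (hc : ∀ (h : H) (v : V), f h • v = h • v) (v : V) :
    (MulAction.stabilizer X v).comap f = MulAction.stabilizer H v := by
  ext h
  rw [Subgroup.mem_comap, MulAction.mem_stabilizer_iff, MulAction.mem_stabilizer_iff, hc]

/-- a Sylow subgroup and its image act in the same way -/
theorem fix_iff [Finite H] {s : ℕ} [Fact s.Prime] (hf : Function.Surjective f)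
    (hc : ∀ (h : H) (v : V), f h • v = h • v) (Q : Sylow s H) (v : V) :
    (∀ x ∈ ((Q.mapSurjective hf : Sylow s X) : Subgroup X), x • v = v) ↔ ∀ x ∈ (Q : Subgroup H), x • v = v := by
  rw [Sylow.coe_mapSurjective]
  constructor
  · intro h x hx
    rw [← hc]
    exact h _ (Subgroup.mem_map_of_mem f hx)
  · rintro h _ ⟨x, hx, rfl⟩
    rw [hc]
    exact h x hx

theorem uf_map [Finite H] {s : ℕ} (hs : s.Prime) (hf : Function.Surjective f)
    (hc : ∀ (h : H) (v : V), f h • v = h • v) {N : AddSubgroup V} (h : UF s H N) : UF s X N := by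
  have : Fact s.Prime := ⟨hs⟩
  intro v hv
  obtain ⟨Q, hQ, hu⟩ := h v hv
  refine ⟨Q.mapSurjective hf, (fix_iff hf hc Q v).2 hQ, ?_⟩
  intro Q' hQ'
  obtain ⟨Q1, rfl⟩ := Sylow.mapSurjective_surjective hf s Q'
  rw [hu Q1 ((fix_iff hf hc Q1 v).1 hQ')]

theorem triv_iff [Finite H] {s : ℕ} [Fact s.Prime] (hf : Function.Surjective f)
    (hc : ∀ (h : H) (v : V), f h • v = h • v) (Q : Sylow s H) :
    Triv V ((Q.mapSurjective hf : Sylow s X) : Subgroup X) ↔ Triv V (Q : Subgroup H) := by
  rw [Sylow.coe_mapSurjective]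
  constructor
  · intro h x hx v
    rw [← hc]
    exact h _ (Subgroup.mem_map_of_mem f hx) v
  · rintro h _ ⟨x, hx, rfl⟩ v
    rw [hc]
    exact h x hx v

theorem fixed_eq [Finite H] {s : ℕ} [Fact s.Prime] (hf : Function.Surjective f)
    (hc : ∀ (h : H) (v : V), f h • v = h • v) (Q : Sylow s H) :
    fixed V ((Q.mapSurjective hf : Sylow s X) : Subgroup X) = fixed V (Q : Subgroup H) := by
  ext v
  rw [mem_fixed, mem_fixed]
  exact fix_iff hf hc Q v

/-- **`SLD` pulls back.** -/
theorem sld_comap [Finite H] (hf : Function.Surjective f) (hc : ∀ (h : H) (v : V), f h • v = h • v)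
    {C : Subgroup X} {p n : ℕ} (S : SLD X V C p n) : SLD H V (C.comap f) p n := by
  have hnC := S.nrm
  have hidx : (C.comap f).index = C.index := Subgroup.index_comap_of_surjective C hf
  have hrel : (Ker H V).relIndex (C.comap f) = (Ker X V).relIndex C := by
    rw [← comap_Ker hc, Subgroup.relIndex_comap, Subgroup.map_comap_eq_self_of_surjective hf]
  refine
    { nrm := hnC.comap f
      card := S.card
      ker := ?_
      free := ?_
      comm := ?_
      quot := ?_
      gen := ?_
      deg := ?_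
      dvd := ?_
      stab := ?_
      uf := ?_ }
  · rw [← comap_Ker hc]
    exact Subgroup.comap_mono S.ker
  · intro c hcC v hv hcv
    rw [← mem_ker_iff hc]
    exact S.free (f c) hcC v hv (by rw [hc, hcv])
  · intro a ha b hb
    rw [← mem_ker_iff hc, map_mul, map_mul, map_mul, map_inv, map_inv]
    exact S.comm _ ha _ hb
  · intro a b
    rw [Subgroup.mem_comap, map_mul, map_mul, map_mul, map_inv, map_inv]
    exact S.quot _ _
  · obtain ⟨g', hg', h1, h2⟩ := S.gen
    obtain ⟨g, rfl⟩ := hf g'
    refine ⟨g, hg', ?_, ?_⟩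
    · intro c hcC
      obtain ⟨k, hk⟩ := h1 (f c) hcC
      refine ⟨k, ?_⟩
      rw [← mem_ker_iff hc, map_mul, map_inv, map_pow]
      exact hk
    · intro Y hY
      exact h2 Y fun y hy => by
        rw [hc]
        exact hY y hy
  · rw [hidx]
    exact H681.DegBasic.charDegrees_comp f hf S.deg
  · rw [hidx]
    exact S.dvd
  · intro v hv
    rw [hrel, ← comap_stabilizer hc, Subgroup.index_comap_of_surjective _ hf]
    exact S.stab v hv
  · intro z hz hu Z hZ
    have : Fact z.Prime := ⟨hz⟩
    have h1 := S.uf z hz (uf_map hz hf hc hu) (Z.mapSurjective hf) (fun h => hZ ((triv_iff hf hc Z).1 h))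
    rw [fixed_eq hf hc Z] at h1
    rw [hidx, hrel]
    exact h1

end

/-- **The structure theorem follows from the faithful case.** -/
theorem factSL_of_faithful (h : FactSLF.{u, v}) : FactSL.{u, v} := by
  intro H V _ _ _ _ _ p n s hH hp hn hcard hirr hs hsp huf hZ
  let act : H ⧸ Ker H V →* AddMonoid.End V := QuotientGroup.lift (Ker H V) (DistribMulAction.toAddMonoidEnd H V) (by
    intro k hk
    rw [MonoidHom.mem_ker]
    ext v
    exact hk v)
  let _ : DistribMulAction (H ⧸ Ker H V) V := DistribMulAction.compHom V act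
  have hf : Function.Surjective (QuotientGroup.mk' (Ker H V)) := QuotientGroup.mk'_surjective _
  have hc : ∀ (g : H) (v : V), (QuotientGroup.mk' (Ker H V) g : H ⧸ Ker H V) • v = g • v := fun g v => rfl
  have : Fact s.Prime := ⟨hs⟩
  have hfin : Finite (H ⧸ Ker H V) := Quotient.finite _
  obtain ⟨C, hC⟩ := h (H ⧸ Ker H V) V p n s inferInstance hp hn hcard
    (by
      intro W hW
      exact hirr W fun g w hw => by
        rw [← hc]
        exact hW _ w hw)
    (by
      intro x hx
      obtain ⟨g, rfl⟩ := hf x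
      exact (QuotientGroup.eq_one_iff g).2 fun v => by
        rw [← hc]
        exact hx v)
    hs hsp (uf_map hs hf hc huf)
    (by
      obtain ⟨Z, hZ⟩ := hZ
      exact ⟨Z.mapSurjective hf, fun h => hZ ((triv_iff hf hc Z).1 h)⟩)
  exact ⟨C.comap (QuotientGroup.mk' (Ker H V)), sld_comap hf hc hC⟩

end Cfsg.Agent.H993.SLFaith
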