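import Mathlib
import Cfsg.Agent.H498.Ab.Def

/-!
# Abelian permutation groups of small fixity (helper993, for S2501)

`cube_le` : an abelian group `A` of permutations preserving a set `D`, fixing `k` points of `D`, such that the elements
fixing more than `f` points of `D` are trivial, satisfies `|A| ^ 3 ≤ max (|D| ^ 3) (3 ^ (f - k) * f ^ 3)`.
-/

set_option autoImplicit false

namespace Cfsg.Agent.H993.AbPerm

open Subgroup Cfsg.Agent.H498.Ab

theorem cube_le_three_pow (m : ℕ) : m ^ 3 ≤ 3 ^ m := by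
  induction m using Nat.strong_induction_on with
  | _ m ih =>
    rcases Nat.lt_or_ge m 4 with h | h
    · interval_cases m <;> norm_num
    · obtain ⟨n, rfl⟩ : ∃ n, m = n + 1 := ⟨m - 1, by omega⟩
      have h1 := ih n (by omega)
      have h2 : (n + 1) ^ 3 ≤ 3 * n ^ 3 := by nlinarith [mul_nonneg (Nat.zero_le n) (Nat.zero_le n)]
      calc (n + 1) ^ 3 ≤ 3 * n ^ 3 := h2
        _ ≤ 3 * 3 ^ n := Nat.mul_le_mul_left _ h1
        _ = 3 ^ (n + 1) := by ring

variable {Ω : Type*} [Finite Ω]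

/-- the elements of `A` fixing `S` pointwise -/
def fixS (A : Subgroup (Equiv.Perm Ω)) (S : Set Ω) : Subgroup (Equiv.Perm Ω) where
  carrier := {a | a ∈ A ∧ ∀ p ∈ S, a p = p}
  mul_mem' := by
    rintro a b ⟨ha, ha'⟩ ⟨hb, hb'⟩
    refine ⟨A.mul_mem ha hb, fun p hp => ?_⟩
    rw [Equiv.Perm.mul_apply, hb' p hp, ha' p hp]
  one_mem' := ⟨A.one_mem, fun _ _ => rfl⟩
  inv_mem' := by
    rintro a ⟨ha, ha'⟩
    refine ⟨A.inv_mem ha, fun p hp => ?_⟩
    rw [Equiv.Perm.inv_eq_iff_eq, ha' p hp]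

omit [Finite Ω] in
theorem mem_fixS {A : Subgroup (Equiv.Perm Ω)} {S : Set Ω} {a : Equiv.Perm Ω} :
    a ∈ fixS A S ↔ a ∈ A ∧ ∀ p ∈ S, a p = p := Iff.rfl

/-- adding an orbit -/
theorem card_step {A : Subgroup (Equiv.Perm Ω)} (hA : IsMulCommutative A) (S : Set Ω) (d : Ω) :
    Nat.card ↥(fixS A S) ≤ (MulAction.orbit ↥A d).ncard * Nat.card ↥(fixS A (S ∪ MulAction.orbit ↥A d)) := by
  have h0 := comm_iff.1 hA
  have h1 := (MulAction.stabilizer ↥(fixS A S) d).card_mul_index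
  rw [MulAction.index_stabilizer] at h1
  have h2 : (MulAction.orbit ↥(fixS A S) d).ncard ≤ (MulAction.orbit ↥A d).ncard := by
    refine Set.ncard_le_ncard ?_ (Set.toFinite _)
    rintro _ ⟨a, rfl⟩
    exact ⟨⟨a.1, a.2.1⟩, rfl⟩
  have h3 : Nat.card ↥(MulAction.stabilizer ↥(fixS A S) d) ≤ Nat.card ↥(fixS A (S ∪ MulAction.orbit ↥A d)) := by
    refine Nat.card_le_card_of_injective (fun a => (⟨a.1.1, a.1.2.1, ?_⟩ : ↥(fixS A (S ∪ MulAction.orbit ↥A d)))) ?_
    · rintro p (hp | ⟨b, rfl⟩)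
      · exact a.1.2.2 p hp
      · have ha : (a.1.1 : Equiv.Perm Ω) d = d := a.2
        show (a.1.1 : Equiv.Perm Ω) ((b : Equiv.Perm Ω) d) = (b : Equiv.Perm Ω) d
        have h4 : ((a.1.1 : Equiv.Perm Ω) * (b : Equiv.Perm Ω)) d = ((b : Equiv.Perm Ω) * (a.1.1 : Equiv.Perm Ω)) d := by
          rw [h0 _ a.1.2.1 _ b.2]
        rw [Equiv.Perm.mul_apply, Equiv.Perm.mul_apply, ha] at h4
        exact h4
    · intro a b h
      have h5 : (a.1.1 : Equiv.Perm Ω) = b.1.1 := congrArg (fun y => y.1) h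
      exact Subtype.ext (Subtype.ext h5)
  rw [← h1, mul_comm]
  exact Nat.mul_le_mul h2 h3

/-- **Abelian groups of small fixity.** -/
theorem cube_le {A : Subgroup (Equiv.Perm Ω)} (hA : IsMulCommutative A) {D : Set Ω}
    (hD : ∀ a ∈ A, ∀ p ∈ D, a p ∈ D) {f k n : ℕ} (hn : D.ncard = n) (hfn : f < n)
    (hf : ∀ a ∈ A, ∀ S ⊆ D, f < S.ncard → (∀ p ∈ S, a p = p) → a = 1)
    {S₀ : Set Ω} (hS₀ : S₀ ⊆ D) (hk : S₀.ncard = k) (hfix : ∀ a ∈ A, ∀ p ∈ S₀, a p = p) (hkf : k ≤ f) :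
    Nat.card A ^ 3 ≤ max (n ^ 3) (3 ^ (f - k) * f ^ 3) := by
  -- a maximal good set
  let Good : ℕ → Prop := fun s => ∃ S : Set Ω, S.ncard = s ∧ S₀ ⊆ S ∧ S ⊆ D ∧ (∀ a ∈ A, ∀ p ∈ S, a p ∈ S) ∧
    S.ncard ≤ f ∧ Nat.card A ^ 3 ≤ 3 ^ (S.ncard - k) * Nat.card ↥(fixS A S) ^ 3
  have h0 : Good k := by
    refine ⟨S₀, hk, subset_rfl, hS₀, ?_, by omega, ?_⟩
    · intro a ha p hp
      rw [hfix a ha p hp]
      exact hp
    · rw [hk, Nat.sub_self, pow_zero, one_mul]
      have : fixS A S₀ = A := by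
        ext a
        exact ⟨fun h => h.1, fun h => ⟨h, hfix a h⟩⟩
      rw [this]
  classical
  have hg : Good (Nat.findGreatest Good f) := Nat.findGreatest_spec hkf h0
  obtain ⟨S, hSs, hS0, hSD, hSi, hSf, hSc⟩ := hg
  have hne : ∃ d ∈ D, d ∉ S := by
    by_contra hcon
    push Not at hcon
    have := Set.ncard_le_ncard (show D ⊆ S from hcon) (Set.toFinite _)
    omega
  obtain ⟨d, hdD, hdS⟩ := hne
  set O := MulAction.orbit ↥A d with hO
  have hOD : O ⊆ D := by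
    rintro _ ⟨a, rfl⟩
    exact hD a a.2 d hdD
  have hOS : Disjoint S O := by
    rw [Set.disjoint_left]
    rintro _ hp ⟨a, rfl⟩
    apply hdS
    have h1 := hSi (a : Equiv.Perm Ω)⁻¹ (A.inv_mem a.2) _ hp
    have h2 : ((a : Equiv.Perm Ω)⁻¹) ((a : Equiv.Perm Ω) d) = d := Equiv.symm_apply_apply _ _
    change ((a : Equiv.Perm Ω)⁻¹) ((a : Equiv.Perm Ω) d) ∈ S at h1
    rw [h2] at h1
    exact h1
  have hstep := card_step hA S d
  rw [← hO] at hstep
  by_cases hm : f < O.ncard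
  · -- a long orbit
    have h1 : Nat.card A ≤ n := by
      have h2 := card_step hA (∅ : Set Ω) d
      rw [← hO] at h2
      have h3 : fixS A (∅ : Set Ω) = A := by
        ext a
        exact ⟨fun h => h.1, fun h => ⟨h, fun p hp => absurd hp (Set.notMem_empty p)⟩⟩
      have h4 : Nat.card ↥(fixS A (∅ ∪ O)) = 1 := by
        rw [Subgroup.card_eq_one, eq_bot_iff]
        intro a ha
        rw [Subgroup.mem_bot]
        exact hf a ha.1 O hOD hm fun p hp => ha.2 p (Or.inr hp)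
      rw [h3, h4, mul_one] at h2
      refine h2.trans ?_
      rw [← hn]
      exact Set.ncard_le_ncard hOD (Set.toFinite _)
    exact le_max_of_le_left (Nat.pow_le_pow_left h1 3)
  · push Not at hm
    have hun : (S ∪ O).ncard = S.ncard + O.ncard := Set.ncard_union_eq hOS (Set.toFinite _) (Set.toFinite _)
    have h3 : Nat.card A ^ 3 ≤ 3 ^ (S.ncard - k) * O.ncard ^ 3 * Nat.card ↥(fixS A (S ∪ O)) ^ 3 := by
      calc Nat.card A ^ 3 ≤ 3 ^ (S.ncard - k) * Nat.card ↥(fixS A S) ^ 3 := hSc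
        _ ≤ 3 ^ (S.ncard - k) * (O.ncard * Nat.card ↥(fixS A (S ∪ O))) ^ 3 :=
          Nat.mul_le_mul_left _ (Nat.pow_le_pow_left hstep 3)
        _ = _ := by ring
    have hkS : k ≤ S.ncard := by
      rw [← hk]
      exact Set.ncard_le_ncard hS0 (Set.toFinite _)
    by_cases hbig : f < (S ∪ O).ncard
    · refine le_max_of_le_right ?_
      have h4 : Nat.card ↥(fixS A (S ∪ O)) = 1 := by
        rw [Subgroup.card_eq_one, eq_bot_iff]
        intro a ha
        rw [Subgroup.mem_bot]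
        exact hf a ha.1 (S ∪ O) (Set.union_subset hSD hOD) hbig ha.2
      rw [h4, one_pow, mul_one] at h3
      refine h3.trans (Nat.mul_le_mul (Nat.pow_le_pow_right (by norm_num) (by omega)) (Nat.pow_le_pow_left hm 3))
    · exfalso
      push Not at hbig
      have hOpos : 0 < O.ncard := (Set.ncard_pos (Set.toFinite _)).2 ⟨d, MulAction.mem_orbit_self d⟩
      have h5 : Good ((S ∪ O).ncard) := by
        refine ⟨S ∪ O, rfl, hS0.trans Set.subset_union_left, Set.union_subset hSD hOD, ?_, hbig, ?_⟩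
        · rintro a ha p (hp | ⟨b, rfl⟩)
          · exact Or.inl (hSi a ha p hp)
          · exact Or.inr ⟨(⟨a, ha⟩ : ↥A) * b, rfl⟩
        · refine h3.trans (Nat.mul_le_mul_right _ ?_)
          rw [hun, show S.ncard + O.ncard - k = (S.ncard - k) + O.ncard by omega, pow_add]
          exact Nat.mul_le_mul_left _ (cube_le_three_pow _)
      have h6 := Nat.le_findGreatest hbig h5
      omega

end Cfsg.Agent.H993.AbPerm
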