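import Mathlib

/-!
# Small alternating groups

* `conj_inv` : for `m ≤ 5` the elements of order 2 of `A_m` are conjugate in `A_m`.
* `comm_four` : for `k ≠ 1` in `A_4` some commutator `[k, g]` has order 2; `odd_four`, `odd_five` : no nontrivial
  normal subgroup of odd order in `A_4`, `A_5`.
* `sq_four` : no elements of order 4 in `A_4`.
* `exists_four` : two commuting involutions in `A_m`, `4 ≤ m`.
-/

set_option autoImplicit false

namespace Cfsg.Agent.H993.AltFacts

open Equiv Equiv.Perm

theorem cycleType_inv {m : ℕ} (hm : m ≤ 5) {a : Perm (Fin m)} (ha : orderOf a = 2) (hs : sign a = 1) :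
    a.cycleType = Multiset.replicate 2 2 := by
  obtain ⟨n, hn⟩ := cycleType_prime_order (σ := a) (by rw [ha]; exact Nat.prime_two)
  rw [ha] at hn
  have h1 : a.cycleType.sum ≤ 5 := by
    have := sum_cycleType_le a
    rw [Fintype.card_fin] at this
    omega
  rw [hn, Multiset.sum_replicate, smul_eq_mul] at h1
  have h2 : n = 0 ∨ n = 1 := by omega
  rcases h2 with rfl | rfl
  · exfalso
    rw [sign_of_cycleType, hn] at hs
    simp at hs
    exact absurd hs (by decide)
  · exact hn

theorem conj_inv {m : ℕ} (hm : m ≤ 5) (a b : alternatingGroup (Fin m)) (ha : orderOf a = 2)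
    (hb : orderOf b = 2) : ∃ g : alternatingGroup (Fin m), g * a * g⁻¹ = b := by
  have ha' : orderOf (a : Perm (Fin m)) = 2 := by rw [Subgroup.orderOf_coe, ha]
  have hb' : orderOf (b : Perm (Fin m)) = 2 := by rw [Subgroup.orderOf_coe, hb]
  have h1 := cycleType_inv hm ha' a.2
  have h2 := cycleType_inv hm hb' b.2
  obtain ⟨g, hg⟩ := isConj_iff.mp (isConj_iff_cycleType_eq.mpr (h1.trans h2.symm))
  have haa : (a : Perm (Fin m)) * a = 1 := by rw [← pow_two, ← ha', pow_orderOf_eq_one]
  rcases Int.units_eq_one_or (sign g) with h | h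
  · exact ⟨⟨g, h⟩, Subtype.ext hg⟩
  · obtain ⟨x, hx⟩ : ∃ x, (a : Perm (Fin m)) x ≠ x := by
      by_contra hc
      push Not at hc
      have : (a : Perm (Fin m)) = 1 := by ext1 i; simpa using hc i
      rw [this, orderOf_one] at ha'
      exact absurd ha' (by norm_num)
    have hc : swap x ((a : Perm (Fin m)) x) * a = a * swap x ((a : Perm (Fin m)) x) := by
      rw [Equiv.mul_swap_eq_swap_mul]
      have : (a : Perm (Fin m)) ((a : Perm (Fin m)) x) = x := by
        rw [← Perm.mul_apply, haa, Perm.one_apply]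
      rw [this, swap_comm]
    refine ⟨⟨g * swap x ((a : Perm (Fin m)) x), ?_⟩, Subtype.ext ?_⟩
    · rw [mem_alternatingGroup, map_mul, h, sign_swap hx.symm]
      rfl
    · show g * swap x ((a : Perm (Fin m)) x) * a * (g * swap x ((a : Perm (Fin m)) x))⁻¹ = b
      rw [mul_assoc g, hc, ← hg]
      group

set_option maxRecDepth 100000 in
theorem comm_four : ∀ k : Perm (Fin 4), sign k = 1 → k ≠ 1 → ∃ g : Perm (Fin 4), sign g = 1 ∧
    k * (g * k⁻¹ * g⁻¹) ≠ 1 ∧ (k * (g * k⁻¹ * g⁻¹)) * (k * (g * k⁻¹ * g⁻¹)) = 1 := by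
  decide +kernel

set_option maxRecDepth 100000 in
theorem sq_four : ∀ k : Perm (Fin 4), sign k = 1 → k ^ 4 = 1 → k * k = 1 := by
  decide +kernel

/-- conjugate involutions, a four-group, no odd normal subgroups -/
structure TF (T : Type*) [Group T] : Prop where
  inv : ∀ a b : T, orderOf a = 2 → orderOf b = 2 → ∃ g : T, g * a * g⁻¹ = b
  four : ∃ a b : T, orderOf a = 2 ∧ orderOf b = 2 ∧ a ≠ b ∧ a * b = b * a
  odd : ∀ R : Subgroup T, R.Normal → Odd (Nat.card R) → R = ⊥

theorem TF.congr {H K : Type*} [Group H] [Group K] (e : H ≃* K) (h : TF K) : TF H where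
  inv := by
    intro a b ha hb
    obtain ⟨g, hg⟩ := h.inv (e a) (e b) (by rw [MulEquiv.orderOf_eq, ha]) (by rw [MulEquiv.orderOf_eq, hb])
    refine ⟨e.symm g, e.injective ?_⟩
    simpa using hg
  four := by
    obtain ⟨a, b, ha, hb, hab, hc⟩ := h.four
    refine ⟨e.symm a, e.symm b, by rw [MulEquiv.orderOf_eq, ha], by rw [MulEquiv.orderOf_eq, hb],
      fun h => hab (e.symm.injective h), by rw [← map_mul, hc, map_mul]⟩
  odd := by
    intro R hR hodd
    have h1 : (R.map e.toMonoidHom).Normal := hR.map _ e.surjective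
    have h2 : Nat.card (R.map e.toMonoidHom) = Nat.card R := Subgroup.card_map_of_injective e.injective
    have h3 := h.odd _ h1 (by rw [h2]; exact hodd)
    rwa [Subgroup.map_eq_bot_iff_of_injective _ e.injective] at h3

theorem orderOf_two {G : Type*} [Group G] {a : G} (h1 : a * a = 1) (h2 : a ≠ 1) : orderOf a = 2 :=
  orderOf_eq_prime (by rw [pow_two, h1]) h2

theorem tf_four : TF (alternatingGroup (Fin 4)) where
  inv := conj_inv (by norm_num)
  four := by
    refine ⟨⟨swap 0 1 * swap 2 3, by rw [mem_alternatingGroup]; decide⟩,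
      ⟨swap 0 2 * swap 1 3, by rw [mem_alternatingGroup]; decide⟩, ?_, ?_, ?_, ?_⟩
    · exact orderOf_two (by decide) (by decide)
    · exact orderOf_two (by decide) (by decide)
    · decide
    · decide
  odd := by
    intro R hR hodd
    rw [Subgroup.eq_bot_iff_forall]
    intro k hk
    by_contra hk1
    obtain ⟨g, hg, h1, h2⟩ := comm_four k k.2 (fun h => hk1 (Subtype.ext h))
    have h3 : k * ((⟨g, hg⟩ : alternatingGroup (Fin 4)) * k⁻¹ * (⟨g, hg⟩ : alternatingGroup (Fin 4))⁻¹) ∈ R :=
      mul_mem hk (hR.conj_mem _ (inv_mem hk) _)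
    have h4 := orderOf_two (a := k * ((⟨g, hg⟩ : alternatingGroup (Fin 4)) * k⁻¹ *
      (⟨g, hg⟩ : alternatingGroup (Fin 4))⁻¹)) (Subtype.ext h2) (fun h => h1 (congrArg Subtype.val h))
    have h5 := Subgroup.orderOf_dvd_natCard R h3
    rw [h4] at h5
    exact (Nat.not_even_iff_odd.mpr hodd) (even_iff_two_dvd.mpr h5)

theorem tf_five : TF (alternatingGroup (Fin 5)) where
  inv := conj_inv (by norm_num)
  four := by
    refine ⟨⟨swap 0 1 * swap 2 3, by rw [mem_alternatingGroup]; decide⟩,
      ⟨swap 0 2 * swap 1 3, by rw [mem_alternatingGroup]; decide⟩, ?_, ?_, ?_, ?_⟩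
    · exact orderOf_two (by decide +kernel) (by decide +kernel)
    · exact orderOf_two (by decide +kernel) (by decide +kernel)
    · decide +kernel
    · decide +kernel
  odd := by
    intro R hR hodd
    have : IsSimpleGroup (alternatingGroup (Fin 5)) := alternatingGroup.isSimpleGroup (by simp)
    rcases hR.eq_bot_or_eq_top with h | h
    · exact h
    · exfalso
      rw [h, Subgroup.card_top, nat_card_alternatingGroup] at hodd
      simp [Nat.factorial] at hodd
      exact absurd hodd (by decide)

theorem odd_card_of_le_three {m : ℕ} (hm : m ≤ 3) : Odd (Nat.card (alternatingGroup (Fin m))) := by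
  interval_cases m
  · have : Nat.card (alternatingGroup (Fin 0)) = 1 := by
      rw [Nat.card_eq_one_iff_unique]; exact ⟨inferInstance, inferInstance⟩
    rw [this]; exact odd_one
  · have : Nat.card (alternatingGroup (Fin 1)) = 1 := by
      rw [Nat.card_eq_one_iff_unique]; exact ⟨inferInstance, inferInstance⟩
    rw [this]; exact odd_one
  · rw [nat_card_alternatingGroup]; simp
  · rw [nat_card_alternatingGroup]; simp [Nat.factorial]; decide

theorem card_four : Nat.card (alternatingGroup (Fin 4)) = 12 := by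
  rw [nat_card_alternatingGroup]; simp [Nat.factorial]

theorem card_five : Nat.card (alternatingGroup (Fin 5)) = 60 := by
  rw [nat_card_alternatingGroup]; simp [Nat.factorial]

end Cfsg.Agent.H993.AltFacts
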