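import Mathlib.GroupTheory.SpecificGroups.Alternating
import Mathlib.GroupTheory.Perm.Support

/-!
# Involutions of `A_m`, `m ≥ 6`, are products of squares of elements of their centralizers

`SqCen H` : every `a : H` with `a * a = 1` lies in the subgroup generated by the squares `x * x` of the
elements `x` commuting with `a`.
* `sqCen_alternating` : `SqCen (alternatingGroup (Fin m))` for `6 ≤ m`.
* `SqCen.congr` : invariance under isomorphisms.
-/

set_option autoImplicit false

namespace Cfsg.Agent.H993.AltSq

open Equiv Equiv.Perm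

/-- every involution is a product of squares of elements commuting with it -/
def SqCen (H : Type*) [Group H] : Prop :=
  ∀ a : H, a * a = 1 → a ∈ Subgroup.closure {z : H | ∃ x : H, x * a = a * x ∧ z = x * x}

theorem SqCen.congr {H K : Type*} [Group H] [Group K] (e : H ≃* K) (h : SqCen K) : SqCen H := by
  intro a ha
  have h1 := h (e a) (by rw [← map_mul, ha, map_one])
  have h2 : (Subgroup.closure {z : H | ∃ x : H, x * a = a * x ∧ z = x * x}).map e.toMonoidHom =
      Subgroup.closure {z : K | ∃ x : K, x * e a = e a * x ∧ z = x * x} := by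
    rw [MonoidHom.map_closure]
    congr 1
    ext z
    constructor
    · rintro ⟨w, ⟨x, hx, rfl⟩, rfl⟩
      refine ⟨e x, ?_, by simp⟩
      rw [← map_mul, hx, map_mul]
    · rintro ⟨x, hx, rfl⟩
      refine ⟨e.symm x * e.symm x, ⟨e.symm x, ?_, rfl⟩, by simp⟩
      apply e.injective
      simpa using hx
  rw [← h2] at h1
  obtain ⟨b, hb, hb2⟩ := h1
  have : b = a := e.injective (by simpa using hb2)
  rwa [this] at hb

variable {m : ℕ}

theorem swap_comm_of {a : Perm (Fin m)} (ha : a * a = 1) {u v : Fin m}
    (h : v = a u ∨ (a u = u ∧ a v = v)) : swap u v * a = a * swap u v := by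
  rw [Equiv.mul_swap_eq_swap_mul]
  rcases h with rfl | ⟨h1, h2⟩
  · have : a (a u) = u := by rw [← Perm.mul_apply, ha, Perm.one_apply]
    rw [this, swap_comm]
  · rw [h1, h2]

theorem exists_w (hm : 6 ≤ m) {a : Perm (Fin m)} (ha : a * a = 1) {x y : Fin m} :
    ∃ u v : Fin m, u ≠ v ∧ u ≠ x ∧ u ≠ y ∧ u ≠ a x ∧ u ≠ a y ∧ v ≠ x ∧ v ≠ y ∧ v ≠ a x ∧ v ≠ a y ∧
      (v = a u ∨ (a u = u ∧ a v = v)) := by
  classical
  have haa : ∀ i, a (a i) = i := fun i => by rw [← Perm.mul_apply, ha, Perm.one_apply]
  by_cases h : ∃ u, u ≠ x ∧ u ≠ y ∧ u ≠ a x ∧ u ≠ a y ∧ a u ≠ u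
  · obtain ⟨u, h1, h2, h3, h4, h5⟩ := h
    refine ⟨u, a u, h5.symm, h1, h2, h3, h4, ?_, ?_, ?_, ?_, Or.inl rfl⟩
    · intro h; exact h3 (by rw [← h, haa])
    · intro h; exact h4 (by rw [← h, haa])
    · intro h; exact h1 (a.injective h)
    · intro h; exact h2 (a.injective h)
  · push Not at h
    have hc : 1 < ((Finset.univ : Finset (Fin m)) \ {x, y, a x, a y}).card := by
      have h4 : ({x, y, a x, a y} : Finset (Fin m)).card ≤ 4 := Finset.card_le_four
      have := Finset.le_card_sdiff ({x, y, a x, a y} : Finset (Fin m)) (Finset.univ)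
      rw [Finset.card_univ, Fintype.card_fin] at this
      omega
    obtain ⟨u, hu, v, hv, huv⟩ := Finset.one_lt_card.mp hc
    simp only [Finset.mem_sdiff, Finset.mem_univ, Finset.mem_insert, Finset.mem_singleton, true_and,
      not_or] at hu hv
    exact ⟨u, v, huv, hu.1, hu.2.1, hu.2.2.1, hu.2.2.2, hv.1, hv.2.1, hv.2.2.1, hv.2.2.2,
      Or.inr ⟨h u hu.1 hu.2.1 hu.2.2.1 hu.2.2.2, h v hv.1 hv.2.1 hv.2.2.1 hv.2.2.2⟩⟩

theorem exists_sq (hm : 6 ≤ m) {a : Perm (Fin m)} (ha : a * a = 1) {x y : Fin m} (hx : a x ≠ x)
    (hy : a y ≠ y) (hxy : y ≠ x) (hxy' : y ≠ a x) :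
    ∃ z : Perm (Fin m), sign z = 1 ∧ z * a = a * z ∧ swap x (a x) * swap y (a y) = z * z := by
  have haa : ∀ i, a (a i) = i := fun i => by rw [← Perm.mul_apply, ha, Perm.one_apply]
  obtain ⟨u, v, huv, hux, huy, huax, huay, hvx, hvy, hvax, hvay, hw⟩ := exists_w hm ha (x := x) (y := y)
  have hayx : a y ≠ x := fun h => hxy' (by rw [← h, haa])
  have hayax : a y ≠ a x := fun h => hxy (a.injective h)
  -- disjointness
  have d1 : Disjoint (swap x y) (swap (a x) (a y)) := by
    apply disjoint_swap_swap
    simp only [List.nodup_cons, List.mem_cons, List.not_mem_nil, or_false, not_or, List.nodup_nil,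
      and_true, not_false_iff]
    exact ⟨⟨hxy.symm, hx.symm, hayx.symm⟩, ⟨hxy', hy.symm⟩, hayax.symm⟩
  have d2 : Disjoint (swap x (a x)) (swap y (a y)) := by
    apply disjoint_swap_swap
    simp only [List.nodup_cons, List.mem_cons, List.not_mem_nil, or_false, not_or, List.nodup_nil,
      and_true, not_false_iff]
    exact ⟨⟨hx.symm, hxy.symm, hayx.symm⟩, ⟨hxy'.symm, hayax.symm⟩, hy.symm⟩
  have d3 : Disjoint (swap u v) (swap x (a x)) := by
    apply disjoint_swap_swap
    simp only [List.nodup_cons, List.mem_cons, List.not_mem_nil, or_false, not_or, List.nodup_nil,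
      and_true, not_false_iff]
    exact ⟨⟨huv, hux, huax⟩, ⟨hvx, hvax⟩, hx.symm⟩
  have d4 : Disjoint (swap u v) (swap x y) := by
    apply disjoint_swap_swap
    simp only [List.nodup_cons, List.mem_cons, List.not_mem_nil, or_false, not_or, List.nodup_nil,
      and_true, not_false_iff]
    exact ⟨⟨huv, hux, huy⟩, ⟨hvx, hvy⟩, hxy.symm⟩
  have d5 : Disjoint (swap u v) (swap (a x) (a y)) := by
    apply disjoint_swap_swap
    simp only [List.nodup_cons, List.mem_cons, List.not_mem_nil, or_false, not_or, List.nodup_nil,
      and_true, not_false_iff]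
    exact ⟨⟨huv, huax, huay⟩, ⟨hvax, hvay⟩, hayax.symm⟩
  set r := swap x (a x) with hr
  set s := swap x y * swap (a x) (a y) with hs
  set w := swap u v with hwdef
  have cwr : w * r = r * w := d3.commute.eq
  have cws : w * s = s * w := by
    rw [hs, ← mul_assoc, d4.commute.eq, mul_assoc, d5.commute.eq, mul_assoc]
  have caw : w * a = a * w := swap_comm_of ha hw
  have car : r * a = a * r := swap_comm_of ha (Or.inl rfl)
  have cas : s * a = a * s := by
    calc s * a = (swap x y * swap (a x) (a y)) * a := rfl
      _ = (swap (a x) (a y) * swap x y) * a := by rw [d1.commute.eq]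
      _ = swap (a x) (a y) * (swap (a (a x)) (a (a y)) * a) := by rw [haa, haa, mul_assoc]
      _ = swap (a x) (a y) * (a * swap (a x) (a y)) := by
          rw [← Equiv.mul_swap_eq_swap_mul]
      _ = (swap (a x) (a y) * a) * swap (a x) (a y) := by rw [mul_assoc]
      _ = (a * swap x y) * swap (a x) (a y) := by rw [← Equiv.mul_swap_eq_swap_mul a x y]
      _ = a * s := by rw [hs, mul_assoc]
  have hss : s * s = 1 := by
    have : s * s = (swap x y * swap x y) * (swap (a x) (a y) * swap (a x) (a y)) := by
      rw [hs]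
      calc swap x y * swap (a x) (a y) * (swap x y * swap (a x) (a y))
          = swap x y * (swap (a x) (a y) * swap x y) * swap (a x) (a y) := by group
        _ = swap x y * (swap x y * swap (a x) (a y)) * swap (a x) (a y) := by
            rw [d1.commute.eq]
        _ = _ := by group
    rw [this, swap_mul_self, swap_mul_self, one_mul]
  have hww : w * w = 1 := swap_mul_self _ _
  have hsx : s x = y := by
    rw [hs, Perm.mul_apply, swap_apply_of_ne_of_ne hx.symm hayx.symm, swap_apply_left]
  have hsax : s (a x) = a y := by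
    rw [hs, Perm.mul_apply, swap_apply_left, swap_apply_of_ne_of_ne hayx hy]
  have hsrs : s * r * s = swap y (a y) := by
    rw [hr, Equiv.mul_swap_eq_swap_mul, hsx, hsax, mul_assoc, hss, mul_one]
  refine ⟨s * r * w, ?_, ?_, ?_⟩
  · rw [map_mul, map_mul, hs, map_mul, hr, hwdef, sign_swap hxy.symm, sign_swap hayax.symm,
      sign_swap hx.symm, sign_swap huv]
    simp
  · calc s * r * w * a = s * r * (w * a) := by group
      _ = s * r * (a * w) := by rw [caw]
      _ = s * (r * a) * w := by group
      _ = s * (a * r) * w := by rw [car]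
      _ = (s * a) * r * w := by group
      _ = (a * s) * r * w := by rw [cas]
      _ = a * (s * r * w) := by group
  · have : s * r * w * (s * r * w) = (s * r * s) * r * (w * w) := by
      calc s * r * w * (s * r * w) = s * r * (w * s) * r * w := by group
        _ = s * r * (s * w) * r * w := by rw [cws]
        _ = s * r * s * (w * r) * w := by group
        _ = s * r * s * (r * w) * w := by rw [cwr]
        _ = _ := by group
    rw [this, hsrs, hww, mul_one, d2.commute.eq]

/-- the subgroup of `Perm` generated by the squares of the even permutations commuting with `a` -/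
def K (a : Perm (Fin m)) : Subgroup (Perm (Fin m)) :=
  Subgroup.closure {z | ∃ x : Perm (Fin m), sign x = 1 ∧ x * a = a * x ∧ z = x * x}

theorem sub_mem (hm : 6 ≤ m) {a : Perm (Fin m)} (ha : a * a = 1) :
    ∀ (n : ℕ) (b : Perm (Fin m)), (Finset.univ.filter fun i => b i ≠ i).card ≤ n → b * b = 1 →
      (∀ i, b i = i ∨ b i = a i) → sign b = 1 → b ∈ K a := by
  classical
  have haa : ∀ i, a (a i) = i := fun i => by rw [← Perm.mul_apply, ha, Perm.one_apply]
  intro n
  induction n with
  | zero =>
    intro b hb _ _ _
    have : b = 1 := by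
      ext1 i
      by_contra h
      have : i ∈ (Finset.univ.filter fun i => b i ≠ i) := by
        simpa using h
      rw [Nat.le_zero, Finset.card_eq_zero] at hb
      rw [hb] at this
      simp at this
    rw [this]
    exact one_mem _
  | succ n ih =>
    intro b hb hbb hba hsb
    have hbb' : ∀ i, b (b i) = i := fun i => by rw [← Perm.mul_apply, hbb, Perm.one_apply]
    by_cases h1 : b = 1
    · rw [h1]
      exact one_mem _
    obtain ⟨x, hx⟩ : ∃ x, b x ≠ x := by
      by_contra h
      push Not at h
      exact h1 (by ext1 i; simpa using h i)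
    have hbx : b x = a x := (hba x).resolve_left hx
    obtain ⟨y, hy, hyx, hybx⟩ : ∃ y, b y ≠ y ∧ y ≠ x ∧ y ≠ b x := by
      by_contra h
      push Not at h
      have hsw : b = swap x (b x) := by
        ext1 i
        by_cases hi : b i = i
        · have hix : i ≠ x := fun h => hx (by rw [← h]; exact hi)
          have hibx : i ≠ b x := by
            intro h
            apply hx
            have h5 := hbb' x
            rw [← h, hi, h] at h5
            exact h5
          rw [swap_apply_of_ne_of_ne hix hibx, hi]
        · by_cases hix : i = x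
          · rw [hix, swap_apply_left]
          · rw [h i hi hix, swap_apply_right, hbb']
      rw [hsw, sign_swap hx.symm] at hsb
      exact absurd hsb (by decide)
    have hby : b y = a y := (hba y).resolve_left hy
    have hax : a x ≠ x := by rw [← hbx]; exact hx
    have hay : a y ≠ y := by rw [← hby]; exact hy
    have hyax : y ≠ a x := by rw [← hbx]; exact hybx
    have hayx : a y ≠ x := fun h => hyax (by rw [← h, haa])
    have hayax : a y ≠ a x := fun h => hyx (a.injective h)
    set τ := swap x (a x) * swap y (a y) with hτ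
    have d2 : Disjoint (swap x (a x)) (swap y (a y)) := by
      apply disjoint_swap_swap
      simp only [List.nodup_cons, List.mem_cons, List.not_mem_nil, or_false, not_or, List.nodup_nil,
        and_true, not_false_iff]
      exact ⟨⟨hax.symm, hyx.symm, hayx.symm⟩, ⟨hyax.symm, hayax.symm⟩, hay.symm⟩
    have hττ : τ * τ = 1 := by
      rw [hτ]
      calc swap x (a x) * swap y (a y) * (swap x (a x) * swap y (a y))
          = swap x (a x) * (swap y (a y) * swap x (a x)) * swap y (a y) := by group
        _ = swap x (a x) * (swap x (a x) * swap y (a y)) * swap y (a y) := by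
            rw [d2.commute.eq]
        _ = (swap x (a x) * swap x (a x)) * (swap y (a y) * swap y (a y)) := by group
        _ = 1 := by rw [swap_mul_self, swap_mul_self, one_mul]
    have hτK : τ ∈ K a := by
      obtain ⟨z, hz1, hz2, hz3⟩ := exists_sq hm ha hax hay hyx hyax
      exact Subgroup.subset_closure ⟨z, hz1, hz2, hz3⟩
    -- values of τ
    have t1 : τ x = a x := by
      rw [hτ, Perm.mul_apply, swap_apply_of_ne_of_ne hyx.symm hayx.symm, swap_apply_left]
    have t2 : τ (a x) = x := by
      rw [hτ, Perm.mul_apply, swap_apply_of_ne_of_ne hyax.symm hayax.symm, swap_apply_right]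
    have t3 : τ y = a y := by
      rw [hτ, Perm.mul_apply, swap_apply_left, swap_apply_of_ne_of_ne hayx hayax]
    have t4 : τ (a y) = y := by
      rw [hτ, Perm.mul_apply, swap_apply_right, swap_apply_of_ne_of_ne hyx hyax]
    have t5 : ∀ i, i ≠ x → i ≠ y → i ≠ a x → i ≠ a y → τ i = i := by
      intro i h1 h2 h3 h4
      rw [hτ, Perm.mul_apply, swap_apply_of_ne_of_ne h2 h4, swap_apply_of_ne_of_ne h1 h3]
    -- values of `τ * b`
    have b1 : (τ * b) x = x := by rw [Perm.mul_apply, hbx, t2]
    have b2 : (τ * b) (a x) = a x := by rw [Perm.mul_apply, ← hbx, hbb', hbx, t1]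
    have b3 : (τ * b) y = y := by rw [Perm.mul_apply, hby, t4]
    have b4 : (τ * b) (a y) = a y := by rw [Perm.mul_apply, ← hby, hbb', hby, t3]
    have b5 : ∀ i, i ≠ x → i ≠ y → i ≠ a x → i ≠ a y → (τ * b) i = b i := by
      intro i h1 h2 h3 h4
      rw [Perm.mul_apply]
      apply t5
      · intro h; exact h3 (by rw [← hbx, ← h, hbb'])
      · intro h; exact h4 (by rw [← hby, ← h, hbb'])
      · intro h; rw [← hbx] at h; exact h1 (b.injective h)
      · intro h; rw [← hby] at h; exact h2 (b.injective h)
    have hcases : ∀ i, (τ * b) i = i ∨ (i ≠ x ∧ i ≠ y ∧ i ≠ a x ∧ i ≠ a y ∧ (τ * b) i = b i) := by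
      intro i
      by_cases e1 : i = x
      · left; rw [e1, b1]
      by_cases e2 : i = y
      · left; rw [e2, b3]
      by_cases e3 : i = a x
      · left; rw [e3, b2]
      by_cases e4 : i = a y
      · left; rw [e4, b4]
      exact Or.inr ⟨e1, e2, e3, e4, b5 i e1 e2 e3 e4⟩
    have hb' : τ * b ∈ K a := by
      apply ih
      · have hlt : (Finset.univ.filter fun i => (τ * b) i ≠ i) ⊂ (Finset.univ.filter fun i => b i ≠ i) := by
          rw [Finset.ssubset_iff_of_subset]
          · exact ⟨x, by simpa using hx, fun h => (Finset.mem_filter.mp h).2 b1⟩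
          · intro i hi
            simp only [Finset.mem_filter, Finset.mem_univ, true_and] at hi ⊢
            rcases hcases i with h | h
            · exact absurd h hi
            · rw [← h.2.2.2.2]; exact hi
        have := Finset.card_lt_card hlt
        omega
      · ext1 i
        rw [Perm.mul_apply, Perm.one_apply]
        rcases hcases i with h | h
        · rw [h, h]
        · have hbi : (τ * b) (b i) = b (b i) := by
            rcases hcases (b i) with h' | h'
            · rw [Perm.mul_apply, hbb'] at h'
              -- τ i = b i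
              have := t5 i h.1 h.2.1 h.2.2.1 h.2.2.2.1
              rw [this] at h'
              rw [Perm.mul_apply, hbb', this]
            · exact h'.2.2.2.2
          rw [h.2.2.2.2, hbi, hbb']
      · intro i
        rcases hcases i with h | h
        · exact Or.inl h
        · rw [h.2.2.2.2]; exact hba i
      · rw [map_mul, hsb, hτ, map_mul, sign_swap hax.symm, sign_swap hay.symm]
        simp
    have : b = τ * (τ * b) := by rw [← mul_assoc, hττ, one_mul]
    rw [this]
    exact mul_mem hτK hb'

theorem sqCen_alternating (hm : 6 ≤ m) : SqCen (alternatingGroup (Fin m)) := by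
  intro a ha
  have ha' : (a : Perm (Fin m)) * a = 1 := by
    have := congrArg (Subtype.val) ha
    simpa using this
  have h1 : (a : Perm (Fin m)) ∈ K (a : Perm (Fin m)) :=
    sub_mem hm ha' _ _ le_rfl ha' (fun i => Or.inr rfl) (by exact a.2)
  have h2 : K (a : Perm (Fin m)) = (Subgroup.closure {z : alternatingGroup (Fin m) |
      ∃ x : alternatingGroup (Fin m), x * a = a * x ∧ z = x * x}).map (alternatingGroup (Fin m)).subtype := by
    rw [MonoidHom.map_closure, K]
    congr 1
    ext z
    constructor
    · rintro ⟨x, hx1, hx2, rfl⟩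
      refine ⟨⟨x, hx1⟩ * ⟨x, hx1⟩, ⟨⟨x, hx1⟩, ?_, rfl⟩, rfl⟩
      exact Subtype.ext hx2
    · rintro ⟨w, ⟨x, hx, rfl⟩, rfl⟩
      exact ⟨x, x.2, congrArg Subtype.val hx, rfl⟩
  rw [h2] at h1
  obtain ⟨b, hb, hb2⟩ := h1
  have : b = a := Subtype.ext hb2
  rwa [this] at hb

end Cfsg.Agent.H993.AltSq
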