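import Cfsg.Agent.H464.ExtSemi
import Cfsg.Agent.H477.HC.RowSp

/-!
# Constituents and induced automorphisms (helper993, S4832, task EXT-C1)

* `exists_theta` : a constituent on `N`, as a character of `S = N / Z`;
* `Ind` : the automorphism of `S` is induced by a semisimilarity;
* `exists_iso` : similitudes with multipliers in the same class differ by an isometry and a scalar.
-/

set_option autoImplicit false

open scoped ComplexConjugate
open Cfsg

namespace Cfsg.Agent.H993.ExtTwo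

open Cfsg.Agent.Characters Module Cfsg.Agent.H53.HC Cfsg.Agent.H477.HC Cfsg.Agent.H576.Ext

universe u v w

/-- descent to a normal subgroup, with the constituent -/
theorem down_constituent' {I : Type u} [Group I] [Finite I] (N : Subgroup I) [N.Normal] [Fintype N] {χ : I → ℂ}
    (hχ : IsIrrCharacter I χ) {d : ℕ} (hd : χ 1 = d) :
    ∃ (θ : N → ℂ) (e : ℕ), IsIrrCharacter N θ ∧ θ 1 = e ∧ e ∣ d ∧ d / e ∣ N.index ∧ 0 < e ∧
      classInner (fun n : N => χ n) θ ≠ 0 ∧
      ∀ z : N, z ∈ Subgroup.center N → χ z = χ 1 → ∀ n, θ (n * z) = θ n := by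
  classical
  let _ : Fintype I := Fintype.ofFinite I
  have hα : IsCharacter N (χ ∘ N.subtype) := Core.isCharacter_comp N.subtype (Core.isIrr_isCharacter hχ)
  obtain ⟨θ, hθ, hθ'⟩ := exists_constituent hα (by
    rw [Function.comp_apply, map_one]; exact Core.isIrr_apply_one_ne_zero hχ)
  obtain ⟨e, he0, he⟩ := Core.isIrr_apply_one hθ
  obtain ⟨h3, h4⟩ := Cfsg.Agent.S0887.result N χ hχ θ hθ hθ' d e hd he
  refine ⟨θ, e, hθ, he, h3, h4, he0, hθ', fun z hzc hzχ => ?_⟩
  obtain ⟨l, hl⟩ := central_mul hθ hzc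
  -- `l = 1`
  have e0 : ∑ n : N, (χ ∘ N.subtype) n * conj (θ n) = conj l * ∑ n : N, (χ ∘ N.subtype) n * conj (θ n) := by
    calc ∑ n : N, (χ ∘ N.subtype) n * conj (θ n)
        = ∑ n : N, (χ ∘ N.subtype) (n * z) * conj (θ (n * z)) :=
          (Equiv.sum_comp (Equiv.mulRight z) (fun n => (χ ∘ N.subtype) n * conj (θ n))).symm
      _ = _ := by
          rw [Finset.mul_sum]
          refine Finset.sum_congr rfl fun n _ => ?_
          have h5 : (χ ∘ N.subtype) (n * z) = (χ ∘ N.subtype) n := kernel_mul hα (by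
            change χ z = χ 1
            exact hzχ) n
          rw [hl, map_mul, h5]
          ring
  have e1 : classInner (χ ∘ N.subtype) θ = conj l * classInner (χ ∘ N.subtype) θ := by
    rw [Core.classInner_def, mul_left_comm, ← e0]
  have e2 : conj l = 1 := by
    have : (conj l - 1) * classInner (χ ∘ N.subtype) θ = 0 := by
      rw [sub_mul, one_mul, ← e1, sub_self]
    exact sub_eq_zero.1 ((mul_eq_zero.1 this).resolve_right hθ')
  have e3 : l = 1 := by
    have := congrArg conj e2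
    rwa [Complex.conj_conj, map_one] at this
  intro n
  have := hl n
  rwa [e3, one_mul] at this

/-- a constituent on `N`, as a character of `S = N / Z` -/
theorem exists_theta {I : Type u} [Group I] [Finite I] (N : Subgroup I) [N.Normal] [Fintype N] {S : Type w} [Group S]
    [Finite S] (q : N →* S) (hq : Function.Surjective q) {χ : I → ℂ} (hχ : IsIrrCharacter I χ)
    (hker : ∀ z : N, q z = 1 → z ∈ Subgroup.center N ∧ χ z = χ 1) {d : ℕ} (hd : χ 1 = d) :
    ∃ (θ : S → ℂ) (e : ℕ), IsIrrCharacter S θ ∧ θ 1 = e ∧ e ∣ d ∧ d / e ∣ N.index ∧ 0 < e ∧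
      classInner (fun n : N => χ n) (fun n => θ (q n)) ≠ 0 := by
  classical
  obtain ⟨θ₀, e, hθ₀, he, h3, h4, h5, h6, h7⟩ := down_constituent' N hχ hd
  obtain ⟨η, hη, hη'⟩ := exists_quot q.ker hθ₀ fun z hz => by
    obtain ⟨hz1, hz2⟩ := hker z hz
    have := h7 z hz1 hz2 1
    rwa [one_mul] at this
  let f : (N ⧸ q.ker) ≃* S := QuotientGroup.quotientKerEquivOfSurjective q hq
  have hf : ∀ n : N, f.symm (q n) = (n : N ⧸ q.ker) := fun n => by
    rw [MulEquiv.symm_apply_eq]
    rfl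
  refine ⟨η ∘ f.symm.toMonoidHom, e, Core.isIrr_comp _ f.symm.surjective hη, ?_, h3, h4, h5, ?_⟩
  · rw [Function.comp_apply, map_one, ← he, ← hη' 1]
    rfl
  · have h8 : (fun n : N => (η ∘ f.symm.toMonoidHom) (q n)) = θ₀ := by
      funext n
      change η (f.symm (q n)) = _
      rw [hf, hη']
    rw [h8]
    exact h6

/-- the prime divisors of the degree of the constituent -/
theorem dvd_of_index {r a d e i : ℕ} (hr : r.Prime) (h1 : r ^ a ∣ d) (h2 : ¬ r ^ a ∣ i) (h3 : e ∣ d) (h4 : d / e ∣ i)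
    (h5 : 0 < e) : r ∣ e := by
  by_contra hre
  have h8 : r ^ a ∣ d / e := by
    obtain ⟨f, rfl⟩ := h3
    rw [Nat.mul_div_cancel_left _ h5]
    exact (Nat.Coprime.pow_left a ((Nat.Prime.coprime_iff_not_dvd hr).2 hre)).dvd_of_dvd_mul_left h1
  exact h2 (h8.trans h4)

section Ind

variable {K : Type u} [Field K] {V : Type v} [AddCommGroup V] [Module K V] {F : CForm K V}

/-- the automorphism `α` of `S` is induced by the semisimilarity `s` -/
def Ind {N : Subgroup F.iso} {S : Type w} [Group S] (q : N →* S) (α : MulAut S) (s : Semi F) : Prop :=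
  ∃ β : N ≃* N, (∀ (n : N) (v : V), ((β n : F.iso) : V ≃ₗ[K] V) (s.γ v) = s.γ (((n : F.iso) : V ≃ₗ[K] V) v)) ∧
    ∀ n : N, q (β n) = α (q n)

variable (F) in
/-- the identity -/
def semiOne : Semi F where
  τ := RingEquiv.refl K
  lam := 1
  hlam := one_ne_zero
  γ := AddEquiv.refl V
  smul _ _ := rfl
  hB _ _ := (one_mul _).symm
  hQ _ := (one_mul _).symm

theorem ind_one {N : Subgroup F.iso} {S : Type w} [Group S] (q : N →* S) : Ind q 1 (semiOne F) :=
  ⟨MulEquiv.refl N, fun _ _ => rfl, fun _ => rfl⟩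

/-- similitudes which differ by an element of `N` and a scalar -/
theorem Ind.conj {N : Subgroup F.iso} {S : Type w} [Group S] {q : N →* S} (hq : Function.Surjective q)
    {α α' : MulAut S} {s s' : Semi F} (h : Ind q α s) (h' : Ind q α' s') (g : N) {μ : K} (hμ : μ ≠ 0)
    (hg : ∀ v, s.γ v = μ • ((g : F.iso) : V ≃ₗ[K] V) (s'.γ v)) : α * α'⁻¹ ∈ (MulAut.conj (G := S)).range := by
  obtain ⟨β, hβ, hqβ⟩ := h
  obtain ⟨β', hβ', hqβ'⟩ := h'
  have key : ∀ n : N, β n * g = g * β' n := by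
    intro n
    apply Subtype.ext
    apply Subtype.ext
    apply LinearEquiv.ext
    intro v
    obtain ⟨w, rfl⟩ := s'.γ.surjective v
    have h1 := hβ n w
    rw [hg, hg, map_smul] at h1
    have h2 := smul_right_injective V hμ h1
    change ((β n : F.iso) : V ≃ₗ[K] V) (((g : F.iso) : V ≃ₗ[K] V) (s'.γ w)) =
      ((g : F.iso) : V ≃ₗ[K] V) (((β' n : F.iso) : V ≃ₗ[K] V) (s'.γ w))
    rw [hβ']
    exact h2
  refine ⟨q g, ?_⟩
  apply MulEquiv.ext
  intro x
  obtain ⟨y, rfl⟩ := α'.surjective x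
  obtain ⟨n, rfl⟩ := hq y
  rw [MulAut.mul_apply, MulAut.inv_apply_self, ← hqβ, ← hqβ', MulAut.conj_apply]
  have h1 := congrArg q (key n)
  rw [map_mul, map_mul] at h1
  rw [← h1, mul_inv_cancel_right]

/-- similitudes with multipliers in the same class differ by an isometry and a scalar -/
theorem exists_iso (s s' : Semi F) (hs : ∀ x, s.τ x = x) (hs' : ∀ x, s'.τ x = x) {μ : K} (hμ : μ ≠ 0)
    (hl : s.lam = μ * F.σ μ * s'.lam) : ∃ g : F.iso, ∀ v, s.γ v = μ • (g : V ≃ₗ[K] V) (s'.γ v) := by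
  have hσμ : F.σ μ ≠ 0 := by rwa [Ne, map_eq_zero_iff _ F.σ.injective]
  have h1 : ∀ (a : K) (v : V), s.γ (a • v) = a • s.γ v := fun a v => by rw [s.smul, hs]
  have h2 : ∀ (a : K) (v : V), s'.γ (a • v) = a • s'.γ v := fun a v => by rw [s'.smul, hs']
  have h3 : ∀ (a : K) (v : V), s'.γ.symm (a • v) = a • s'.γ.symm v := fun a v => by
    apply s'.γ.injective
    rw [AddEquiv.apply_symm_apply, h2, AddEquiv.apply_symm_apply]
  let g₀ : V ≃ₗ[K] V :=
    { toFun := fun v => μ⁻¹ • s.γ (s'.γ.symm v)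
      invFun := fun v => s'.γ (s.γ.symm (μ • v))
      left_inv := fun v => by
        change s'.γ (s.γ.symm (μ • μ⁻¹ • s.γ (s'.γ.symm v))) = v
        rw [smul_inv_smul₀ hμ, AddEquiv.symm_apply_apply, AddEquiv.apply_symm_apply]
      right_inv := fun v => by
        change μ⁻¹ • s.γ (s'.γ.symm (s'.γ (s.γ.symm (μ • v)))) = v
        rw [AddEquiv.symm_apply_apply, AddEquiv.apply_symm_apply, inv_smul_smul₀ hμ]
      map_add' := fun v w => by rw [map_add, map_add, smul_add]
      map_smul' := fun a v => by rw [h3, h1, smul_comm]; rfl }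
  have hg₀ : ∀ v, g₀ (s'.γ v) = μ⁻¹ • s.γ v := fun v => by
    change μ⁻¹ • s.γ (s'.γ.symm (s'.γ v)) = _
    rw [AddEquiv.symm_apply_apply]
  have hmem : g₀ ∈ F.iso := by
    refine ⟨fun u v => ?_, fun v => ?_⟩
    · obtain ⟨u, rfl⟩ := s'.γ.surjective u
      obtain ⟨v, rfl⟩ := s'.γ.surjective v
      rw [hg₀, hg₀, F.B_smul_left, F.B_smul_right, s.hB, s'.hB, hs, hs', hl, map_inv₀]
      field_simp
    · obtain ⟨v, rfl⟩ := s'.γ.surjective v
      rw [hg₀, F.Q_smul, s.hQ, s'.hQ, hs, hs', hl, map_inv₀]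
      field_simp
  refine ⟨⟨g₀, hmem⟩, fun v => ?_⟩
  change s.γ v = μ • g₀ (s'.γ v)
  rw [hg₀, smul_inv_smul₀ hμ]

end Ind

end Cfsg.Agent.H993.ExtTwo
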