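import Cfsg.Agent.H993.ExtInd
import Cfsg.Agent.H936.DSClass
import Cfsg.Agent.H477.HC.RowO

/-!
# Orthogonal groups: the glue between `E Q` and the isometry groups of `CForm`s (helper993, S4832)

`F : CForm K V`, `Q : QuadraticForm K V` with the same values (`Glue F Q`).

* `NE F Q` : the subgroup `E Q` of `F.iso`; `qE : NE →* E Q / Z(E Q)`;
* `hasRoots`, `normal_NE`;
* `exists_ind` : every semisimilitude induces an automorphism `Psi Q M`, `Ind qE (Psi Q M) s`.
-/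

set_option autoImplicit false

open scoped ComplexConjugate
open Cfsg

namespace Cfsg.Agent.H993.ExtOrth

open Cfsg.Agent.Characters Module Cfsg.Agent.H53.HC Cfsg.Agent.H477.HC Cfsg.Agent.H576.Ext Cfsg.Agent.H993.ExtTwo
open QuadraticMap Cfsg.Agent.LieClassical.OrthCore Cfsg.Agent.LieClassical.OrthTrans
  Cfsg.Agent.LieClassical.OrthSimple Cfsg.Agent.ClassicalGeometry.OrthSemi

universe u v

variable {K : Type u} [Field K] {V : Type v} [AddCommGroup V] [Module K V] {F : CForm K V} {Q : QuadraticForm K V}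

/-- `F` is the form of `Q` -/
structure Glue (F : CForm K V) (Q : QuadraticForm K V) : Prop where
  hσ : F.σ = RingHom.id K
  hε : F.ε = 1
  hQ : ∀ v, F.Q v = Q v
  hB : ∀ u v, F.B u v = polar Q u v

theorem Glue.mem_iso (hF : Glue F Q) {g : V ≃ₗ[K] V} : g ∈ F.iso ↔ g ∈ O Q := by
  constructor
  · rintro ⟨-, h⟩ v
    rw [← hF.hQ, ← hF.hQ, h]
  · intro h
    refine ⟨fun u v => ?_, fun v => ?_⟩
    · rw [hF.hB, hF.hB, polar_map h]
    · rw [hF.hQ, hF.hQ, mem_O.1 h]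

variable (F Q) in
/-- `E Q` in the isometry group -/
def NE : Subgroup F.iso := (E Q).subgroupOf F.iso

theorem mem_NE {n : F.iso} : n ∈ NE F Q ↔ (n : V ≃ₗ[K] V) ∈ E Q := Iff.rfl

theorem Glue.le (hF : Glue F Q) : E Q ≤ F.iso := fun _ hg => hF.mem_iso.2 (E_le_O hg)

theorem Glue.normal (hF : Glue F Q) : (NE F Q).Normal :=
  ⟨fun _ hn g => conj_mem_E (hF.mem_iso.1 g.2) hn⟩

/-- `NE ≃* E Q` -/
noncomputable def Glue.equiv (hF : Glue F Q) : NE F Q ≃* E Q := Subgroup.subgroupOfEquivOfLe hF.le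

theorem Glue.equiv_coe (hF : Glue F Q) (n : NE F Q) :
    ((hF.equiv n : E Q) : V ≃ₗ[K] V) = ((n : F.iso) : V ≃ₗ[K] V) := rfl

theorem Glue.symm_coe (hF : Glue F Q) (h : E Q) :
    (((hF.equiv.symm h : NE F Q) : F.iso) : V ≃ₗ[K] V) = (h : V ≃ₗ[K] V) := by
  rw [← hF.equiv_coe, MulEquiv.apply_symm_apply]

/-- the projection -/
noncomputable def Glue.q (hF : Glue F Q) : NE F Q →* (↥(E Q) ⧸ Subgroup.center ↥(E Q)) :=
  (QuotientGroup.mk' _).comp hF.equiv.toMonoidHom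

theorem Glue.q_apply (hF : Glue F Q) (n : NE F Q) : hF.q n = QuotientGroup.mk (hF.equiv n) := rfl

theorem Glue.q_surjective (hF : Glue F Q) : Function.Surjective hF.q := by
  intro x
  obtain ⟨h, rfl⟩ := QuotientGroup.mk_surjective x
  exact ⟨hF.equiv.symm h, by rw [hF.q_apply, MulEquiv.apply_symm_apply]⟩

theorem Glue.hasRoots (hF : Glue F Q) : HasRoots F (NE F Q) := by
  intro x b hx hb hxb _ g hg
  rw [mem_NE]
  have hQx : Q x = 0 := by rw [← hF.hQ]; exact hx.1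
  have hQb : Q b = 0 := by rw [← hF.hQ]; exact hb.1
  have hbx : polar Q b x = 0 := by rw [polar_comm, ← hF.hB]; exact hxb
  have h1 : (g : V ≃ₗ[K] V) = siegel Q b x hQb hbx := by
    ext v
    rw [hg, siegel_apply, hF.hε, hF.hB, hF.hB, inv_one, one_mul, hQx, zero_mul, zero_smul, sub_zero, polar_comm Q v b,
      polar_comm Q v x]
  rw [h1]
  exact siegel_mem_E hQb hbx

/-- the semisimilarity of a semisimilitude -/
def Glue.semi (hF : Glue F Q) {σ : K ≃+* K} {c : K} {M : Equiv.Perm V} (hM : IsSS Q σ c M) : Semi F where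
  τ := σ
  lam := c
  hlam := hM.ne
  γ := { M with map_add' := hM.add }
  smul := hM.smul
  hB v w := by
    rw [hF.hB, hF.hB]
    exact hM.polar v w
  hQ v := by
    rw [hF.hQ, hF.hQ]
    exact hM.form v

theorem Glue.ind (hF : Glue F Q) (M : Gam Q) {σ : K ≃+* K} {c : K} (hM : IsSS Q σ c M.1) :
    Ind hF.q (Psi Q M) (hF.semi hM) := by
  refine ⟨(hF.equiv.trans (conjE Q M)).trans hF.equiv.symm, fun n v => ?_, fun n => ?_⟩
  · change (((hF.equiv.symm (conjE Q M (hF.equiv n)) : NE F Q) : F.iso) : V ≃ₗ[K] V) (M.1 v) = _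
    rw [hF.symm_coe, coe_conjE, hF.equiv_coe, conjLin_apply']
    rfl
  · change QuotientGroup.mk (hF.equiv (hF.equiv.symm (conjE Q M (hF.equiv n)))) = _
    rw [MulEquiv.apply_symm_apply, hF.q_apply, Psi_mk]

theorem Glue.exists_ind (hF : Glue F Q) (M : Gam Q) : ∃ s : Semi F, Ind hF.q (Psi Q M) s := by
  obtain ⟨σ, c, hM⟩ := M.2
  exact ⟨_, hF.ind M hM⟩

/-- a semisimilarity, as an element of `Gam Q` -/
theorem Glue.isSS (hF : Glue F Q) (s : Semi F) : IsSS Q s.τ s.lam s.γ.toEquiv where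
  ne := s.hlam
  add := s.γ.map_add
  smul := s.smul
  form v := by
    change Q (s.γ v) = _
    rw [← hF.hQ, ← hF.hQ, s.hQ]

/-- the normality under the semisimilarities -/
theorem Glue.hNn (hF : Glue F Q) (s : Semi F) (n : NE F Q) : ∃ n' : NE F Q, ∀ v,
    ((n' : F.iso) : V ≃ₗ[K] V) (s.γ v) = s.γ (((n : F.iso) : V ≃ₗ[K] V) v) := by
  refine ⟨hF.equiv.symm (conjE Q ⟨s.γ.toEquiv, ⟨_, _, hF.isSS s⟩⟩ (hF.equiv n)), fun v => ?_⟩
  rw [hF.symm_coe, coe_conjE, hF.equiv_coe]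
  exact conjLin_apply' (⟨s.γ.toEquiv, ⟨_, _, hF.isSS s⟩⟩ : Gam Q) _ v

/-- the kernel of `q` -/
theorem Glue.mem_center (hF : Glue F Q) {z : NE F Q} (hz : hF.q z = 1) :
    z ∈ Subgroup.center (NE F Q) ∧ hF.equiv z ∈ Subgroup.center ↥(E Q) := by
  rw [hF.q_apply, QuotientGroup.eq_one_iff] at hz
  refine ⟨?_, hz⟩
  rw [Subgroup.mem_center_iff] at hz ⊢
  intro g
  apply hF.equiv.injective
  rw [map_mul, map_mul, hz]

theorem glue_odd {m : ℕ} (h2 : (2 : K) ≠ 0) : Glue (CForm.oddF K m h2) (LieClassical.OrthForms.oddForm m K) where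
  hσ := rfl
  hε := rfl
  hQ v := by
    rw [LieClassical.OrthForms.coe_oddForm]
    rfl
  hB u v := by
    rw [odd_hB, QuadraticMap.polar, LieClassical.OrthForms.coe_oddForm]
    rfl

theorem glue_plus {m : ℕ} : Glue (CForm.plusF K m) (LieClassical.OrthForms.plusForm m K) where
  hσ := rfl
  hε := rfl
  hQ v := by
    rw [LieClassical.OrthForms.coe_plusForm]
    rfl
  hB u v := by
    rw [plus_hB, QuadraticMap.polar, LieClassical.OrthForms.coe_plusForm]
    rfl

theorem glue_minus [Finite K] {m : ℕ} (a b : K)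
    (hab : ∀ z₁ z₂ : K, z₁ ^ 2 + a * z₁ * z₂ + b * z₂ ^ 2 = 0 → z₁ = 0 ∧ z₂ = 0) :
    Glue (CForm.minusF K m a b hab) (LieClassical.OrthForms.minusForm m K a b) where
  hσ := rfl
  hε := rfl
  hQ v := by
    rw [LieClassical.OrthForms.coe_minusForm]
    rfl
  hB u v := by
    rw [minus_hB, QuadraticMap.polar, LieClassical.OrthForms.coe_minusForm]
    rfl

end Cfsg.Agent.H993.ExtOrth
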