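import Cfsg.Agent.H576.Ext.SemiL
import Cfsg.Agent.H67.ExtBase
import Cfsg.Agent.H699.CusG
import Cfsg.Agent.H993.ExtInd

/-!
# Rows with `|T / Inn| ≤ 2` (helper993, S4832, task EXT-C1)

* `ext_of_two` : extension if the linear similitudes induce inner automorphisms and at most one more coset;
* `hasExt_row`.
-/

set_option autoImplicit false

open scoped ComplexConjugate
open Cfsg

namespace Cfsg.Agent.H993.ExtTwo

open Cfsg.Agent.Characters Module Cfsg.Agent.H53.HC Cfsg.Agent.H477.HC Cfsg.Agent.H576.Ext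

universe u v w

section Ind

variable {K : Type u} [Field K] {V : Type v} [AddCommGroup V] [Module K V] {F : CForm K V}

/-- **no field automorphisms in the stabiliser** -/
theorem eq_one_of_stab [Finite K] [FiniteDimensional K V] [Finite V] {k : ℕ} [Fintype (F.Om k)] (hk : 2 ≤ k)
    {N : Subgroup F.iso} [Fintype N] (hN : HasRoots F N) (hD : HasLevi F N ⊥ k)
    {c : GL (Fin k) K → ℂ} (hc : CusG K k F.σ c)
    (hg : ∀ τ : K ≃+* K, (∃ x, τ x ≠ x) → GenAt K k F.σ ⊥ τ c)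
    {S : Type w} [Group S] [Finite S] {q : N →* S} (hq : Function.Surjective q) {θ : S → ℂ} (hθ : IsIrrCharacter S θ)
    (h0 : classInner (fun n : N => F.hc c (fun _ _ => 1) n) (fun n => θ (q n)) ≠ 0) {α : MulAut S}
    (hα : α ∈ stab θ) {s : Semi F} (h : Ind q α s) : ∀ x, s.τ x = x := by
  by_contra hτ
  push Not at hτ
  obtain ⟨h1, h2⟩ := hg s.τ hτ
  obtain ⟨β, hβ, hqβ⟩ := h
  have hz : ∀ x : K, s.lam * s.τ x = 0 ↔ x = 0 := fun x => by
    rw [mul_eq_zero, or_iff_right s.hlam, map_eq_zero_iff _ s.τ.injective]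
  exact eq_one_of_fix F hk hN hD hc.irr hc.cusp s.τ h1 h2 (θ := fun n => θ (q n))
    (Core.isIrr_comp q hq hθ) h0 s.γ s.smul (fun v w => by rw [s.hB, hz]) (fun v => by rw [s.hQ, hz]) β hβ fun n => by
      change θ (q (β n)) = θ (q n)
      rw [hqβ]
      exact mem_stab.1 hα (q n)

/-- **the row theorem, `|T / Inn| ≤ 2`** -/
theorem ext_of_two [Finite K] [FiniteDimensional K V] [Finite V] {k : ℕ} [Fintype (F.Om k)] (hk : 2 ≤ k)
    {N : Subgroup F.iso} [Fintype N] (hN : HasRoots F N) (hD : HasLevi F N ⊥ k)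
    {c : GL (Fin k) K → ℂ} (hc : CusG K k F.σ c)
    (hg : ∀ τ : K ≃+* K, (∃ x, τ x ≠ x) → GenAt K k F.σ ⊥ τ c)
    {S : Type w} [Group S] [Finite S] (hZ : Subgroup.center S = ⊥) {q : N →* S} (hq : Function.Surjective q)
    (hAut : ∀ α : MulAut S, ∃ s, Ind q α s)
    (hLin : ∀ (α α' : MulAut S) (s s' : Semi F), (∀ x, s.τ x = x) → (∀ x, s'.τ x = x) → Ind q α s → Ind q α' s' →
      α ∈ (MulAut.conj (G := S)).range ∨ α' ∈ (MulAut.conj (G := S)).range ∨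
        α * α'⁻¹ ∈ (MulAut.conj (G := S)).range) {θ : S → ℂ} (hθ : IsIrrCharacter S θ)
    (h0 : classInner (fun n : N => F.hc c (fun _ _ => 1) n) (fun n => θ (q n)) ≠ 0) : ExtTo θ (stab θ) := by
  have h1 : ∀ α ∈ stab θ, ∃ s : Semi F, (∀ x, s.τ x = x) ∧ Ind q α s := by
    intro α hα
    obtain ⟨s, hs⟩ := hAut α
    exact ⟨s, eq_one_of_stab hk hN hD hc hg hq hθ h0 hα hs, hs⟩
  have hI : (MulAut.conj (G := S)).range ≤ stab θ := by
    rintro _ ⟨s, rfl⟩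
    rw [mem_stab]
    intro x
    exact Core.isIrr_isClassFunction hθ x s
  refine extTo_of_cyc hZ hθ hI le_rfl ?_
  by_cases hex : ∃ γ ∈ stab θ, γ ∉ (MulAut.conj (G := S)).range
  · obtain ⟨γ, hγ, hγ'⟩ := hex
    refine ⟨γ, hγ, fun α hα => ?_⟩
    obtain ⟨s, hs, his⟩ := h1 α hα
    obtain ⟨s', hs', his'⟩ := h1 γ hγ
    rcases hLin α γ s s' hs hs' his his' with ⟨s, hs⟩ | h | ⟨s, hs⟩
    · exact ⟨0, s, by rw [zpow_zero, mul_one, hs]⟩
    · exact absurd h hγ'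
    · exact ⟨1, s, by rw [hs, zpow_one, inv_mul_cancel_right]⟩
  · push Not at hex
    refine ⟨1, one_mem _, fun α hα => ?_⟩
    obtain ⟨s, hs⟩ := hex α hα
    exact ⟨0, s, by rw [zpow_zero, mul_one, hs]⟩

/-- **the row** -/
theorem hasExt_row [Finite K] [FiniteDimensional K V] [Finite V] {k : ℕ} (hk : 2 ≤ k) {W₀ : Submodule K V}
    (hW₀ : W₀ ∈ F.Om k) {N : Subgroup F.iso} [N.Normal] (hN : HasRoots F N) (hD : HasLevi F N ⊥ k)
    {c : GL (Fin k) K → ℂ} (hc : CusG K k F.σ c)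
    (hg : ∀ τ : K ≃+* K, (∃ x, τ x ≠ x) → GenAt K k F.σ ⊥ τ c)
    {S : Type w} [Group S] [Finite S] (hZ : Subgroup.center S = ⊥) {q : N →* S} (hq : Function.Surjective q)
    (hker : ∀ z : N, q z = 1 → z ∈ Subgroup.center N ∧ ∃ a : Kˣ, a * Units.map (F.σ : K →* K) a = 1 ∧
      ∀ v, ((z : F.iso) : V ≃ₗ[K] V) v = (a : K) • v)
    (hAut : ∀ α : MulAut S, ∃ s, Ind q α s)
    (hLin : ∀ (α α' : MulAut S) (s s' : Semi F), (∀ x, s.τ x = x) → (∀ x, s'.τ x = x) → Ind q α s → Ind q α' s' →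
      α ∈ (MulAut.conj (G := S)).range ∨ α' ∈ (MulAut.conj (G := S)).range ∨
        α * α'⁻¹ ∈ (MulAut.conj (G := S)).range) {r a : ℕ} (hr : r.Prime) (h1 : r ^ a ∣ dg F k)
    (h2 : ¬ r ^ a ∣ N.index) : HasExt r S := by
  classical
  have := finite_Om F k
  have := finite_iso F
  let _ := Fintype.ofFinite (F.Om k)
  let _ := Fintype.ofFinite F.iso
  let _ := Fintype.ofFinite N
  have hcl := Core.isIrr_isClassFunction hc.irr
  have hχ : IsIrrCharacter F.iso (F.hc c (fun _ _ => 1)) := F.isIrr_hc_one hc.irr hc.cusp hc.dual hW₀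
  have hχ1 : F.hc c (fun _ _ => 1) 1 = (dg F k : ℂ) := by
    rw [F.hc_one hcl (fun _ _ => 1) (d := 1) (fun _ _ => rfl), hc.deg, mul_one]
    unfold dg
    rw [Nat.cast_mul]
  obtain ⟨ν, hν⟩ := hc.nu
  obtain ⟨θ, e, hθ, he, h3, h4, h5, h6⟩ := exists_theta N q hq hχ (fun z hz => by
    obtain ⟨hz1, b, hb, hzb⟩ := hker z hz
    refine ⟨hz1, F.hc_scalar hcl (fun _ _ => 1) hzb ?_ (fun _ _ => rfl)⟩
    have h7 := hν b 1
    rwa [mul_one, hb, map_one, Units.val_one, one_mul] at h7) hχ1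
  refine ⟨θ, hθ, ?_, ext_of_two hk hN hD hc hg hZ hq hAut hLin hθ h6⟩
  rw [H670.PSing.charDegree_eq_of he]
  exact dvd_of_index hr h1 h2 h3 h4 h5

end Ind

end Cfsg.Agent.H993.ExtTwo
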