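import Mathlib
import Cfsg.Prelude.Def_CaseTheorems

/-!
# Reduction of solvability criteria to minimal simple groups (helper993)

* `exists_section` : a finite insoluble group has a minimal simple quotient `H / N` of a
  subgroup `H` with `N` solvable.
* `isSolvable_of_inherited` : a property of finite groups which passes to subgroups and to
  quotients by solvable normal subgroups, and which no minimal simple group has, implies
  solvability.
* `isSolvable_closure_pair` : two involutions generate a solvable group.
-/

set_option autoImplicit false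

namespace Cfsg.Agent.H993.MinRed

open Cfsg

universe u

/-- Solvability passes along a multiplicative equivalence. -/
theorem isSolvable_congr {G H : Type*} [Group G] [Group H] (e : G ≃* H) (h : Group.IsSolvable G) :
    Group.IsSolvable H :=
  Group.isSolvable_of_surjective (f := e.toMonoidHom) e.surjective

/-- An extension of a solvable group by a solvable group is solvable. -/
theorem isSolvable_of_quotient {G : Type*} [Group G] (N : Subgroup G) [N.Normal]
    (h1 : Group.IsSolvable N) (h2 : Group.IsSolvable (G ⧸ N)) : Group.IsSolvable G := by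
  refine Group.isSolvable_of_ker_le_range N.subtype (QuotientGroup.mk' N) ?_
  rw [QuotientGroup.ker_mk', Subgroup.range_subtype]

/-- A finite insoluble group has a subgroup `H` with a solvable normal subgroup `N` such that
`H / N` is a minimal simple group. -/
theorem exists_section {G : Type*} [Group G] [Finite G] (hG : ¬ Group.IsSolvable G) :
    ∃ (H : Subgroup G) (N : Subgroup H) (_ : N.Normal), Group.IsSolvable N ∧
      IsMinimalSimple (H ⧸ N) := by
  classical
  obtain ⟨H, hH, hmin⟩ : ∃ H : Subgroup G, ¬ Group.IsSolvable H ∧
      ∀ K : Subgroup G, K < H → Group.IsSolvable K := by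
    have hne : ({H : Subgroup G | ¬ Group.IsSolvable H}).Nonempty := by
      refine ⟨⊤, fun h => hG ?_⟩
      exact Group.isSolvable_of_surjective (f := (Subgroup.topEquiv (G := G)).toMonoidHom)
        (Subgroup.topEquiv (G := G)).surjective
    obtain ⟨H, hH⟩ := (Set.toFinite {H : Subgroup G | ¬ Group.IsSolvable H}).exists_minimal hne
    refine ⟨H, hH.prop, fun K hK => ?_⟩
    by_contra h
    exact absurd (hH.le_of_le h hK.le) (not_le_of_gt hK)
  have hsub : ∀ K : Subgroup H, K ≠ ⊤ → Group.IsSolvable K := by
    intro K hK
    have h1 : K.map H.subtype < H := by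
      refine lt_of_le_of_ne (Subgroup.map_subtype_le K) ?_
      intro h
      apply hK
      rw [eq_top_iff]
      intro x _
      have hx : (x : G) ∈ K.map H.subtype := by rw [h]; exact x.2
      obtain ⟨y, hy, hyx⟩ := hx
      have : y = x := Subtype.ext hyx
      rwa [← this]
    have h2 := hmin _ h1
    let e := K.equivMapOfInjective H.subtype H.subtype_injective
    exact Group.isSolvable_of_surjective (f := e.symm.toMonoidHom) e.symm.surjective
  obtain ⟨N, hN, hNt, hmax⟩ : ∃ N : Subgroup H, N.Normal ∧ N ≠ ⊤ ∧
      ∀ M : Subgroup H, M.Normal → N ≤ M → M = N ∨ M = ⊤ := by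
    have hnt : Nontrivial H := by
      by_contra h
      rw [not_nontrivial_iff_subsingleton] at h
      exact hH inferInstance
    have hne : ({N : Subgroup H | N.Normal ∧ N ≠ ⊤}).Nonempty :=
      ⟨⊥, inferInstance, bot_ne_top⟩
    obtain ⟨N, hN⟩ := (Set.toFinite {N : Subgroup H | N.Normal ∧ N ≠ ⊤}).exists_maximal hne
    refine ⟨N, hN.prop.1, hN.prop.2, fun M hM hNM => ?_⟩
    by_cases h : M = ⊤
    · exact Or.inr h
    · exact Or.inl (le_antisymm (hN.le_of_ge ⟨hM, h⟩ hNM) hNM)
  refine ⟨H, N, hN, hsub N hNt, ?_, ?_, ?_⟩
  · have hnt : Nontrivial (H ⧸ N) := QuotientGroup.nontrivial_iff.mpr hNt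
    refine { exists_pair_ne := hnt.exists_pair_ne, eq_bot_or_eq_top_of_normal := ?_ }
    intro K hK
    have h1 : (K.comap (QuotientGroup.mk' N)).Normal := inferInstance
    have h2 : N ≤ K.comap (QuotientGroup.mk' N) := by
      intro x hx
      rw [Subgroup.mem_comap]
      have : QuotientGroup.mk' N x = 1 := (QuotientGroup.eq_one_iff _).mpr hx
      rw [this]
      exact K.one_mem
    have h3 := Subgroup.map_comap_eq_self_of_surjective (QuotientGroup.mk'_surjective N) K
    rcases hmax _ h1 h2 with h | h
    · left
      rw [← h3, h]
      ext x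
      simp only [Subgroup.mem_map, Subgroup.mem_bot]
      constructor
      · rintro ⟨y, hy, rfl⟩
        exact (QuotientGroup.eq_one_iff _).mpr hy
      · rintro rfl
        exact ⟨1, N.one_mem, map_one _⟩
    · right
      rw [← h3, h, ← MonoidHom.range_eq_map]
      exact MonoidHom.range_eq_top.mpr (QuotientGroup.mk'_surjective N)
  · intro hc
    apply hH
    refine isSolvable_of_quotient N (hsub N hNt) ?_
    exact Group.isSolvable_of_comm (fun a b => hc.is_comm.comm a b)
  · intro K hK
    have h1 : K.comap (QuotientGroup.mk' N) ≠ ⊤ := by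
      intro h
      apply hK
      have h3 := Subgroup.map_comap_eq_self_of_surjective (QuotientGroup.mk'_surjective N) K
      rw [← h3, h, ← MonoidHom.range_eq_map]
      exact MonoidHom.range_eq_top.mpr (QuotientGroup.mk'_surjective N)
    have h2 := hsub _ h1
    have h3 : Function.Surjective ((QuotientGroup.mk' N).subgroupComap K) := by
      rintro ⟨y, hy⟩
      obtain ⟨x, rfl⟩ := QuotientGroup.mk'_surjective N y
      exact ⟨⟨x, hy⟩, rfl⟩
    exact Group.isSolvable_of_surjective h3

/-- **Reduction to minimal simple groups.** A property of finite groups which is inherited by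
subgroups and by quotients by solvable normal subgroups, and which no finite minimal simple group
has, implies solvability. -/
theorem isSolvable_of_inherited (P : ∀ (G : Type u) [Group G], Prop)
    (sub : ∀ (G : Type u) [Group G] [Finite G] (H : Subgroup G), P G → P H)
    (quo : ∀ (G : Type u) [Group G] [Finite G] (N : Subgroup G) [N.Normal],
      Group.IsSolvable N → P G → P (G ⧸ N))
    (ms : ∀ (G : Type u) [Group G] [Finite G], IsMinimalSimple G → ¬ P G)
    (G : Type u) [Group G] [Finite G] (h : P G) : Group.IsSolvable G := by
  by_contra hG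
  obtain ⟨H, N, hN, hNs, hm⟩ := exists_section hG
  exact ms (H ⧸ N) hm (quo H N hNs (sub G H h))

/-- Two elements with square one generate a solvable group. -/
theorem isSolvable_closure_pair {G : Type*} [Group G] {s t : G} (hs : s * s = 1) (ht : t * t = 1) :
    Group.IsSolvable (Subgroup.closure ({s, t} : Set G)) := by
  set D := Subgroup.closure ({s, t} : Set G) with hD
  have hsD : s ∈ D := Subgroup.subset_closure (by simp)
  have htD : t ∈ D := Subgroup.subset_closure (by simp)
  let s' : D := ⟨s, hsD⟩
  let t' : D := ⟨t, htD⟩
  have hs' : s' * s' = 1 := Subtype.ext hs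
  have ht' : t' * t' = 1 := Subtype.ext ht
  have hsi : s'⁻¹ = s' := inv_eq_of_mul_eq_one_left hs'
  have hti : t'⁻¹ = t' := inv_eq_of_mul_eq_one_left ht'
  have hgen : Subgroup.closure ({s', t'} : Set D) = ⊤ := by
    have h := Subgroup.closure_closure_coe_preimage (k := ({s, t} : Set G))
    rw [← h]
    congr 1
    ext x
    simp only [Set.mem_insert_iff, Set.mem_singleton_iff, Set.mem_preimage]
    constructor
    · rintro (rfl | rfl)
      · left; rfl
      · right; rfl
    · rintro (h | h)
      · left; exact Subtype.ext h
      · right; exact Subtype.ext h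
  -- the cyclic subgroup generated by the product is normal
  let C : Subgroup D := Subgroup.zpowers (s' * t')
  have hC : C.Normal := by
    have hn : Subgroup.normalizer (C : Set D) = ⊤ := by
      rw [eq_top_iff, ← hgen, Subgroup.closure_le]
      have key : ∀ x : D, x * (s' * t') * x⁻¹ = (s' * t')⁻¹ → x ∈ Subgroup.normalizer (C : Set D) := by
        intro x hx
        rw [Subgroup.mem_normalizer_iff]
        intro h
        have hpow : ∀ k : ℤ, x * (s' * t') ^ k * x⁻¹ = (s' * t') ^ (-k) := by
          intro k
          rw [← conj_zpow, hx, inv_zpow, zpow_neg]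
        constructor
        · rintro ⟨k, rfl⟩
          exact ⟨-k, (hpow k).symm⟩
        · rintro ⟨k, hk⟩
          refine ⟨-k, ?_⟩
          have := hpow (-k)
          rw [neg_neg] at this
          simp only at hk
          rw [hk] at this
          have h2 := mul_right_cancel this
          exact mul_left_cancel h2
      rintro x (rfl | rfl)
      · apply key
        rw [mul_inv_rev, hsi, hti]
        calc s' * (s' * t') * s' = (s' * s') * t' * s' := by group
          _ = t' * s' := by rw [hs', one_mul]
      · apply key
        rw [mul_inv_rev, hsi, hti]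
        calc t' * (s' * t') * t' = t' * s' * (t' * t') := by group
          _ = t' * s' := by rw [ht', mul_one]
    exact Subgroup.normalizer_eq_top_iff.mp hn
  refine isSolvable_of_quotient C ?_ ?_
  · refine Group.isSolvable_of_comm (fun a b => ?_)
    obtain ⟨a, i, rfl⟩ := a
    obtain ⟨b, j, rfl⟩ := b
    exact Subtype.ext (zpow_mul_comm _ i j)
  · -- the quotient is generated by one element
    have hq : Subgroup.closure ({QuotientGroup.mk' C s'} : Set (D ⧸ C)) = ⊤ := by
      have h1 : (Subgroup.closure ({s', t'} : Set D)).map (QuotientGroup.mk' C) = ⊤ := by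
        rw [hgen, ← MonoidHom.range_eq_map]
        exact MonoidHom.range_eq_top.mpr (QuotientGroup.mk'_surjective C)
      rw [MonoidHom.map_closure] at h1
      rw [eq_top_iff, ← h1, Subgroup.closure_le]
      rintro _ ⟨x, (rfl | rfl), rfl⟩
      · exact Subgroup.subset_closure rfl
      · have h2 : QuotientGroup.mk' C (s' * t') = 1 :=
          (QuotientGroup.eq_one_iff _).mpr (Subgroup.mem_zpowers _)
        rw [map_mul] at h2
        have h3 : QuotientGroup.mk' C t' = (QuotientGroup.mk' C s')⁻¹ := by
          rw [eq_inv_iff_mul_eq_one, mul_eq_one_iff_eq_inv]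
          rw [mul_eq_one_iff_inv_eq] at h2
          rw [← h2]
        rw [h3]
        exact (Subgroup.closure _).inv_mem (Subgroup.subset_closure rfl)
    have hcyc : ∀ x : D ⧸ C, x ∈ Subgroup.zpowers (QuotientGroup.mk' C s') := by
      intro x
      rw [Subgroup.zpowers_eq_closure, hq]
      trivial
    refine Group.isSolvable_of_comm (fun a b => ?_)
    obtain ⟨i, rfl⟩ := hcyc a
    obtain ⟨j, rfl⟩ := hcyc b
    exact (zpow_mul_comm _ i j)

end Cfsg.Agent.H993.MinRed
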